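import Cfsg.Agent.Lib.PGroup.DoublyPrimitive.Design

/-!
# Small two-point stabilisers

If two-point stabilisers have fewer than `p` elements, they contain an involution, and such an involution
cannot fix just two points.
-/

set_option autoImplicit false
set_option linter.unusedSectionVars false
set_option linter.style.haveILetI false

namespace CfsgLib.PGroup.DoublyPrimitive

open MulAction

variable {G Ω : Type*} [Group G] [Finite G] [Finite Ω] [MulAction G Ω] [FaithfulSMul G Ω] {p : ℕ}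

namespace Sys

variable (S : Sys G Ω p) {a b : Ω}
include S

theorem card_two_stab (h : a ≠ b) {c d : Ω} (h' : c ≠ d) :
    Nat.card ↥(stabilizer G a ⊓ stabilizer G b) = Nat.card ↥(stabilizer G c ⊓ stabilizer G d) := by
  obtain ⟨g, rfl, rfl⟩ := S.tt h h'
  refine card_eq_of_conj g fun k => and_congr ?_ ?_ <;>
  · show k • _ = _ ↔ (g * k * g⁻¹) • g • _ = g • _
    rw [mul_smul, mul_smul, inv_smul_smul, smul_left_cancel_iff]

theorem even_two_stab (hp3 : 3 ≤ p) (h : a ≠ b) : Even (Nat.card ↥(stabilizer G a ⊓ stabilizer G b)) := by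
  classical
  haveI := Fintype.ofFinite Ω
  by_contra hev
  have hodd : ∀ x : Ω, Odd (Nat.card (stabilizer G x)) := by
    intro x
    obtain ⟨y, hy⟩ := S.exists_other x
    rw [← S.card_stab hy, ← S.card_two_stab h hy, Nat.odd_mul]
    exact ⟨(S.prime.odd_of_ne_two (by omega)).pow, Nat.not_even_iff_odd.1 hev⟩
  obtain ⟨σ, hσ⟩ : ∃ σ : G →* ℤˣ, σ = (Equiv.Perm.sign).comp (MulAction.toPermHom G Ω) := ⟨_, rfl⟩
  have hstab : ∀ (x : Ω) (g : G), g • x = x → σ g = 1 := by
    intro x g hg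
    obtain ⟨n, hn⟩ := hodd x
    have h1 : (⟨g, hg⟩ : stabilizer G x) ^ (2 * n + 1) = 1 := hn ▸ pow_card_eq_one'
    have h2 : g ^ (2 * n + 1) = 1 := congrArg Subtype.val h1
    have h3 : σ g ^ (2 * n + 1) = 1 := by rw [← map_pow, h2, map_one]
    rwa [pow_succ, pow_mul, Int.units_sq, one_pow, one_mul] at h3
  have hall : ∀ g : G, σ g = 1 := by
    intro g
    rcases eq_or_ne (g • a) a with he | he
    · exact hstab a g he
    obtain ⟨z, hz1, hz2⟩ : ∃ z, z ≠ a ∧ z ≠ g • a := by
      obtain ⟨z, -, hz⟩ := Set.exists_mem_notMem_of_ncard_lt_ncard (s := ({a, g • a} : Set Ω))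
        (t := (Set.univ : Set Ω)) (by
          rw [Set.ncard_pair (Ne.symm he), Set.ncard_univ, S.card_univ]
          nlinarith)
      simp only [Set.mem_insert_iff, Set.mem_singleton_iff, not_or] at hz
      exact ⟨z, hz.1, hz.2⟩
    obtain ⟨u, huz, hua⟩ := S.tt hz1 hz2
    have h1 : (u⁻¹ * g) • a = a := by rw [mul_smul, inv_smul_eq_iff, hua]
    have h2 := hstab a _ h1
    rwa [map_mul, hstab z u⁻¹ (inv_smul_eq_iff.2 huz.symm), one_mul] at h2
  haveI := Fact.mk Nat.prime_two
  obtain ⟨s, hs⟩ := exists_prime_orderOf_dvd_card' (G := G) 2 (by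
    refine dvd_trans ?_ (dvd_trans (dvd_of_eq S.card_univ.symm) (?_ : Nat.card Ω ∣ Nat.card G))
    · obtain ⟨k, hk⟩ := (S.prime.odd_of_ne_two (by omega)).pow (n := 2)
      exact ⟨k + 1, by omega⟩
    · haveI : IsPretransitive G Ω := ⟨fun x y => by
        rcases eq_or_ne x y with rfl | hxy
        · exact ⟨1, one_smul _ _⟩
        · obtain ⟨g, hg, -⟩ := S.tt hxy hxy.symm
          exact ⟨g, hg⟩⟩
      exact ⟨_, (by rw [← index_stabilizer_of_transitive G a, mul_comm, Subgroup.card_mul_index] :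
        Nat.card G = Nat.card Ω * Nat.card (stabilizer G a))⟩)
  obtain ⟨τ, hτ⟩ : ∃ τ, τ = MulAction.toPermHom G Ω s := ⟨_, rfl⟩
  have hsupp : τ.support = Finset.univ := by
    rw [Finset.eq_univ_iff_forall]
    intro x
    rw [Equiv.Perm.mem_support, hτ]
    intro hx
    obtain ⟨n, hn⟩ := hodd x
    have h1 : (⟨s, hx⟩ : stabilizer G x) ^ (2 * n + 1) = 1 := hn ▸ pow_card_eq_one'
    have h2 : s ^ (2 * n + 1) = 1 := congrArg Subtype.val h1
    have h3 := orderOf_dvd_of_pow_eq_one h2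
    rw [hs] at h3
    omega
  have hord : orderOf τ = 2 := by
    refine orderOf_eq_prime ?_ fun e => ?_
    · rw [hτ, ← map_pow, ← hs, pow_orderOf_eq_one, map_one]
    · rw [e, Equiv.Perm.support_one] at hsupp
      have := congrArg Finset.card hsupp
      rw [Finset.card_empty, Finset.card_univ, ← Nat.card_eq_fintype_card, S.card_univ] at this
      omega
  obtain ⟨i, hi⟩ := Equiv.Perm.cycleType_prime_order (hord.symm ▸ Nat.prime_two)
  rw [hord] at hi
  have hsum := τ.sum_cycleType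
  rw [hi, Multiset.sum_replicate, hsupp, Finset.card_univ, ← Nat.card_eq_fintype_card, S.card_univ,
    smul_eq_mul] at hsum
  have hsign := hall s
  rw [hσ, MonoidHom.comp_apply, ← hτ, Equiv.Perm.sign_of_cycleType, hi, Multiset.sum_replicate,
    Multiset.card_replicate, smul_eq_mul] at hsign
  have hodd' : Odd ((i + 1) * 2 + (i + 1)) := by
    obtain ⟨k, hk⟩ := S.prime.odd_of_ne_two (by omega)
    rw [hk] at hsum
    have hi1 : i + 1 = 2 * (k * k + k) + 1 := by linarith
    exact ⟨3 * (k * k + k) + 1, by omega⟩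
  rw [hodd'.neg_one_pow] at hsign
  exact absurd hsign (by decide)

/-- Involutions attached to pairs fixing exactly the pair need large two-point stabilisers. -/
theorem involution_count (hp3 : 3 ≤ p) (h : a ≠ b) (hm : Nat.card ↥(stabilizer G a ⊓ stabilizer G b) < p)
    (T : Ω → Ω → G) (hT2 : ∀ c d, c ≠ d → T c d * T c d = 1)
    (hfix : ∀ c d, c ≠ d → ∀ x, T c d • x = x ↔ x = c ∨ x = d) : False := by
  classical
  haveI := Fintype.ofFinite Ω
  obtain ⟨A, hA⟩ : ∃ A : Finset ((Ω × Ω) × Ω),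
      A = (Finset.univ.offDiag ×ˢ Finset.univ).filter fun q => q.2 ≠ q.1.1 ∧ q.2 ≠ q.1.2 := ⟨_, rfl⟩
  obtain ⟨N, hN⟩ : ∃ N, N = (Finset.univ : Finset Ω).offDiag.card := ⟨_, rfl⟩
  have hlow : N * (Fintype.card Ω - 2) ≤ A.card := by
    have e : A.card = ∑ q ∈ (Finset.univ : Finset Ω).offDiag,
        ((Finset.univ : Finset Ω).filter fun u => u ≠ q.1 ∧ u ≠ q.2).card := by
      rw [hA, Finset.card_filter, Finset.sum_product]
      simp only [Finset.card_filter]
    rw [e, hN, ← smul_eq_mul, ← Finset.sum_const]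
    refine Finset.sum_le_sum fun q _ => ?_
    have e2 : (Finset.univ : Finset Ω).filter (fun u => u ≠ q.1 ∧ u ≠ q.2) = Finset.univ \ {q.1, q.2} := by
      ext u; simp
    rw [e2, Finset.card_sdiff_of_subset (Finset.subset_univ _), Finset.card_univ]
    have := Finset.card_le_two (a := q.1) (b := q.2)
    omega
  obtain ⟨f, hf⟩ : ∃ f : (Ω × Ω) × Ω → Ω × Ω, f = fun q => (q.2, T q.1.1 q.1.2 • q.2) := ⟨_, rfl⟩
  have himg : A.image f ⊆ (Finset.univ : Finset Ω).offDiag := by
    intro w hw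
    obtain ⟨q, hq, rfl⟩ := Finset.mem_image.1 hw
    rw [hA, Finset.mem_filter, Finset.mem_product, Finset.mem_offDiag] at hq
    rw [hf, Finset.mem_offDiag]
    exact ⟨Finset.mem_univ _, Finset.mem_univ _,
      fun e => ((hfix _ _ hq.1.1.2.2 q.2).1 e.symm).elim hq.2.1 hq.2.2⟩
  haveI := Fintype.ofFinite G
  have hfib : ∀ w ∈ A.image f, (A.filter fun q => f q = w).card ≤ 2 * (p - 1) := by
    intro w hw
    obtain ⟨u, v⟩ := w
    have huv : u ≠ v := (Finset.mem_offDiag.1 (himg hw)).2.2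
    obtain ⟨R, hR⟩ : ∃ R : Finset G, R = Finset.univ.filter fun g => g • u = v ∧ g • v = u := ⟨_, rfl⟩
    have hRcard : R.card ≤ p - 1 := by
      obtain ⟨g₀, hg₀, hg₀'⟩ := S.exists_swap huv
      have h1 : R.card ≤ (Finset.univ.filter fun g : G => g • u = u ∧ g • v = v).card := by
        refine Finset.card_le_card_of_injOn (fun g => g₀⁻¹ * g) (fun g hg => ?_)
          (fun x _ y _ e => mul_left_cancel e)
        rw [Finset.mem_coe, hR, Finset.mem_filter] at hg
        rw [Finset.mem_coe, Finset.mem_filter, mul_smul, mul_smul, hg.2.1, hg.2.2, inv_smul_eq_iff,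
          inv_smul_eq_iff]
        exact ⟨Finset.mem_univ _, hg₀.symm, hg₀'.symm⟩
      have h2 : (Finset.univ.filter fun g : G => g • u = u ∧ g • v = v).card =
          Nat.card ↥(stabilizer G u ⊓ stabilizer G v) := by
        rw [← Fintype.card_subtype, ← Nat.card_eq_fintype_card]
        exact Nat.card_congr (Equiv.subtypeEquivRight fun g => Iff.rfl)
      rw [h2, ← S.card_two_stab h huv] at h1
      omega
    refine le_trans (Finset.card_le_mul_card_image (f := fun q => T q.1.1 q.1.2) _ 2 fun g hg => ?_) ?_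
    · obtain ⟨q₀, hq₀, rfl⟩ := Finset.mem_image.1 hg
      rw [Finset.mem_filter, hA, Finset.mem_filter, Finset.mem_product, Finset.mem_offDiag] at hq₀
      refine le_trans (Finset.card_le_card (t := {((q₀.1.1, q₀.1.2), u), ((q₀.1.2, q₀.1.1), u)}) ?_)
        Finset.card_le_two
      intro q hq
      rw [Finset.mem_filter, Finset.mem_filter, hA, Finset.mem_filter, Finset.mem_product,
        Finset.mem_offDiag] at hq
      obtain ⟨⟨⟨⟨⟨-, -, hne⟩, -⟩, -⟩, hfq⟩, hTq⟩ := hq
      have hne₀ : q₀.1.1 ≠ q₀.1.2 := hq₀.1.1.1.2.2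
      have e1 := (hfix _ _ hne₀ q.1.1).1 (by rw [← hTq]; exact (hfix _ _ hne _).2 (Or.inl rfl))
      have e2 := (hfix _ _ hne₀ q.1.2).1 (by rw [← hTq]; exact (hfix _ _ hne _).2 (Or.inr rfl))
      have e3 : q.2 = u := by rw [hf] at hfq; exact congrArg Prod.fst hfq
      obtain ⟨⟨c, d⟩, w'⟩ := q
      simp only at e1 e2 e3 hne
      subst e3
      rcases e1 with rfl | rfl <;> rcases e2 with rfl | rfl <;> simp_all
    · refine Nat.mul_le_mul_left 2 (le_trans (Finset.card_le_card ?_) hRcard)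
      intro g hg
      obtain ⟨q, hq, rfl⟩ := Finset.mem_image.1 hg
      rw [Finset.mem_filter, hA, Finset.mem_filter, Finset.mem_product, Finset.mem_offDiag] at hq
      obtain ⟨⟨⟨⟨-, -, hne⟩, -⟩, -⟩, hfq⟩ := hq
      rw [hf] at hfq
      rw [hR, Finset.mem_filter]
      have e1 : q.2 = u := congrArg Prod.fst hfq
      have e2 : T q.1.1 q.1.2 • q.2 = v := congrArg Prod.snd hfq
      rw [e1] at e2
      refine ⟨Finset.mem_univ _, e2, ?_⟩
      rw [← e2, ← mul_smul, hT2 _ _ hne, one_smul]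
  have hup : A.card ≤ 2 * (p - 1) * N :=
    (Finset.card_le_mul_card_image _ _ hfib).trans (Nat.mul_le_mul_left _ (hN ▸ Finset.card_le_card himg))
  have hNpos : 0 < N := hN ▸ Finset.card_pos.2 ⟨(a, b), by simp [h]⟩
  have hle : Fintype.card Ω - 2 ≤ 2 * (p - 1) :=
    Nat.le_of_mul_le_mul_left (hlow.trans (hup.trans (le_of_eq (mul_comm _ _)))) hNpos
  rw [← Nat.card_eq_fintype_card, S.card_univ] at hle
  have h9 : 3 * p ≤ p ^ 2 := by rw [pow_two]; exact Nat.mul_le_mul_right p hp3
  omega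

end Sys

end CfsgLib.PGroup.DoublyPrimitive
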