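import Cfsg.Agent.Lib.PGroup.DoublyPrimitive.Translations
import Cfsg.Agent.Lib.PGroup.DoublyPrimitive.Involution

/-!
# The case of a block kernel acting affinely on the blocks

The translations form a group `E` of order `p` in a normal regular abelian group of order `p ^ 2`; the fixed points
of two-point subgroups then give a design, or involutions with two fixed points.
-/

set_option autoImplicit false
set_option linter.unusedSectionVars false
set_option linter.style.haveILetI false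

namespace CfsgLib.PGroup.DoublyPrimitive

open MulAction

variable {G Ω : Type*} [Group G] [Finite G] [Finite Ω] [MulAction G Ω] [FaithfulSMul G Ω] {p : ℕ}

namespace Sys

variable (S : Sys G Ω p) {a b c : Ω}

/-- The part of the stabiliser of `a` centralising the translations. -/
def U (hA : S.Aff) (a : Ω) : Subgroup G := stabilizer G a ⊓ Subgroup.centralizer (S.E hA a : Set G)

/-- Its stabiliser of `b`. -/
def C (hA : S.Aff) (a b : Ω) : Subgroup G := S.U hA a ⊓ stabilizer G b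

include S

theorem mem_U (hA : S.Aff) {g : G} : g ∈ S.U hA a ↔ g • a = a ∧ ∀ e ∈ S.E hA a, g * e = e * g := by
  rw [U, Subgroup.mem_inf, Subgroup.mem_centralizer_iff]
  exact and_congr Iff.rfl ⟨fun h e he => (h e he).symm, fun h e he => (h e he).symm⟩

theorem C_le (hA : S.Aff) (a b : Ω) : S.C hA a b ≤ stabilizer G a ⊓ stabilizer G b :=
  inf_le_inf_right _ inf_le_left

theorem U_conj (hA : S.Aff) (g : G) (a : Ω) (k : G) : k ∈ S.U hA a ↔ g * k * g⁻¹ ∈ S.U hA (g • a) := by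
  rw [S.mem_U hA, S.mem_U hA, mul_smul, mul_smul, inv_smul_smul, smul_left_cancel_iff]
  refine and_congr_right fun _ => ⟨fun h e he => ?_, fun h e he => ?_⟩
  · obtain ⟨v, rfl⟩ : ∃ v, g * v * g⁻¹ = e := ⟨g⁻¹ * e * g, by group⟩
    rw [conj_mul, conj_mul, h v ((S.E_conj hA g a v).2 he)]
  · have := h _ ((S.E_conj hA g a e).1 he)
    rw [conj_mul, conj_mul] at this
    exact mul_left_cancel (mul_right_cancel this)

theorem C_conj (hA : S.Aff) (g : G) (a b : Ω) (k : G) :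
    k ∈ S.C hA a b ↔ g * k * g⁻¹ ∈ S.C hA (g • a) (g • b) := by
  refine Iff.trans (and_congr (S.U_conj hA g a k) ?_) Iff.rfl
  show k • b = b ↔ (g * k * g⁻¹) • (g • b) = g • b
  rw [mul_smul, mul_smul, inv_smul_smul, smul_left_cancel_iff]

theorem card_C_eq (hA : S.Aff) (h : a ≠ b) {c d : Ω} (h' : c ≠ d) :
    Nat.card (S.C hA a b) = Nat.card (S.C hA c d) := by
  obtain ⟨g, rfl, rfl⟩ := S.tt h h'
  exact card_eq_of_conj g (S.C_conj hA g a b)

theorem Eb_bot (hA : S.Aff) (h : a ≠ b) : S.E hA a ⊓ stabilizer G b = ⊥ := by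
  have h1 := S.card_E hA h
  rw [S.card_E_eq_prime hA a] at h1
  refine Subgroup.card_eq_one.1 ?_
  exact Nat.eq_of_mul_eq_mul_left S.prime.pos (h1.trans (mul_one p).symm)

theorem E_free (hA : S.Aff) (h : a ≠ b) {e : G} (he : e ∈ S.E hA a) (hb : e • b = b) : e = 1 := by
  rw [← Subgroup.mem_bot, ← S.Eb_bot hA h]
  exact ⟨he, hb⟩

theorem comm_of_one (hA : S.Aff) {g e : G} (he : e ∈ S.E hA a) (he1 : e ≠ 1) (hge : g * e = e * g) :
    ∀ u ∈ S.E hA a, g * u = u * g := by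
  intro u hu
  haveI := Fact.mk S.prime
  obtain ⟨n, hn⟩ := Subgroup.mem_zpowers_iff.1 (mem_zpowers_of_prime_card (S.card_E_eq_prime hA a)
    (g' := (⟨u, hu⟩ : S.E hA a)) (fun h' => he1 (congrArg Subtype.val h') : (⟨e, he⟩ : S.E hA a) ≠ 1))
  have hn' : e ^ n = u := congrArg Subtype.val hn
  rw [← hn']
  exact Commute.zpow_right hge n

theorem mem_C_of_fixed (hA : S.Aff) (h : a ≠ b) {g : G} {y : Ω} (hg : g ∈ stabilizer G a ⊓ stabilizer G b)
    (hy : y ∈ S.B a b) (hyb : y ≠ b) (hgy : g • y = y) : g ∈ S.C hA a b := by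
  obtain ⟨e, he, rfl⟩ := S.exists_E hA h hy
  refine ⟨(S.mem_U hA).2 ⟨hg.1, ?_⟩, hg.2⟩
  refine S.comm_of_one hA he (fun h1 => hyb (by rw [h1, one_smul])) (mul_inv_eq_iff_eq_mul.1 ?_)
  have hm := S.E_normal hA hg.1 he
  refine (inv_mul_eq_one.1 (S.E_free hA h (mul_mem (inv_mem he) hm) ?_)).symm
  rw [mul_smul, mul_smul, inv_smul_eq_iff.2 (show b = g • b from (hg.2 : g • b = b).symm), mul_smul, hgy,
    inv_smul_smul]

theorem C_fix_B (hA : S.Aff) (h : a ≠ b) {g : G} (hg : g ∈ S.C hA a b) {x : Ω} (hx : x ∈ S.B a b) :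
    g • x = x := by
  obtain ⟨e, he, rfl⟩ := S.exists_E hA h hx
  rw [← mul_smul, ((S.mem_U hA).1 hg.1).2 e he, mul_smul, show g • b = b from hg.2]

theorem C_K_bot (hA : S.Aff) (h : a ≠ b) {g : G} (hg : g ∈ S.C hA a b) (hK : g ∈ S.K a) : g = 1 :=
  S.E_free hA h (S.mem_of_comm_E hA hK ((S.mem_U hA).1 hg.1).2) hg.2

theorem C_normal (hA : S.Aff) {u k : G} (hu : u ∈ stabilizer G a ⊓ stabilizer G b) (hk : k ∈ S.C hA a b) :
    u * k * u⁻¹ ∈ S.C hA a b := by
  have := (S.C_conj hA u a b k).1 hk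
  rwa [show u • a = a from hu.1, show u • b = b from hu.2] at this

/-- A subgroup of order `p ^ 2` in the stabiliser of `a`. -/
theorem exists_P (hA : S.Aff) (a : Ω) : ∃ P : Subgroup G, P ≤ S.U hA a ∧ Nat.card P = p ^ 2 ∧
    S.E hA a ≤ P ∧ (∀ q ∈ P, ∀ r ∈ P, q * r = r * q) ∧
    (∀ x, a ≠ x → ∀ q ∈ P, q • x = x → q = 1) ∧ (∀ x y, a ≠ x → a ≠ y → ∃ q ∈ P, q • x = y) := by
  haveI := Fact.mk S.prime
  obtain ⟨b, h⟩ := S.exists_other a
  obtain ⟨P₀, hP₀⟩ := Sylow.exists_subgroup_card_pow_prime (G := stabilizer G a) p (n := 2)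
    ⟨_, (S.card_stab h).symm⟩
  obtain ⟨P, hP⟩ : ∃ P, P = P₀.map (stabilizer G a).subtype := ⟨_, rfl⟩
  have hPle : P ≤ stabilizer G a := hP ▸ Subgroup.map_subtype_le _
  have hcard : Nat.card P = p ^ 2 := by
    rw [hP, Subgroup.card_map_of_injective (Subgroup.subtype_injective _), hP₀]
  have hpow : ∀ q ∈ P, q ^ p ^ 2 = 1 := fun q hq => by
    rw [← hcard]
    exact congrArg Subtype.val (pow_card_eq_one' (x := (⟨q, hq⟩ : P)))
  have hfree : ∀ x, a ≠ x → ∀ q ∈ P, q • x = x → q = 1 := by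
    intro x hx q hq hqx
    exact S.E_free hA hx (S.mem_E_of_pow hA (j := 2) (hPle hq) hx (by rw [hqx]; exact S.mem hx) (hpow q hq)) hqx
  have htrans : ∀ x y, a ≠ x → a ≠ y → ∃ q ∈ P, q • x = y := by
    intro x y hx hy
    have horb : orbit P x = {a}ᶜ := by
      refine Set.eq_of_subset_of_ncard_le (fun z hz => ?_) ?_ (Set.toFinite _)
      · obtain ⟨q, hq, rfl⟩ := mem_orbit_sub.1 hz
        exact (fixed_ne (hPle hq) hx).symm
      · have hb : P ⊓ stabilizer G x = ⊥ :=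
          eq_bot_iff.2 fun q hq => Subgroup.mem_bot.2 (hfree x hx q hq.1 hq.2)
        have h1 := orbit_mul P x
        rw [hb, Subgroup.card_bot, mul_one, hcard] at h1
        rw [h1, S.card_compl]
    exact mem_orbit_sub.1 (horb.symm ▸ Ne.symm hy)
  have hE : S.E hA a ≤ P := by
    intro e he
    obtain ⟨q, hq, hqb⟩ := htrans b (e • b) h (fixed_ne ((S.E_le hA a he).1) h)
    have hqE : q ∈ S.E hA a := S.mem_E_of_pow hA (j := 2) (hPle hq) h
      (by rw [hqb]; exact (S.E_le hA a he).2 b h) (hpow q hq)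
    have : q⁻¹ * e = 1 := S.E_free hA h (mul_mem (inv_mem hqE) he) (by
      rw [mul_smul, ← hqb, inv_smul_smul])
    rw [← inv_mul_eq_one.1 this]
    exact hq
  have hcomm : ∀ q ∈ P, ∀ r ∈ P, q * r = r * q := fun q hq r hr =>
    congrArg Subtype.val (IsPGroup.commutative_of_card_eq_prime_sq hcard (⟨q, hq⟩ : P) ⟨r, hr⟩)
  exact ⟨P, fun q hq => (S.mem_U hA).2 ⟨hPle hq, fun e he => hcomm q hq e (hE he)⟩, hcard, hE, hcomm, hfree,
    htrans⟩

theorem card_U (hA : S.Aff) (h : a ≠ b) : Nat.card (S.U hA a) = p ^ 2 * Nat.card (S.C hA a b) := by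
  obtain ⟨P, hPU, -, -, -, -, htrans⟩ := S.exists_P hA a
  have horb : orbit (S.U hA a) b = {a}ᶜ := by
    ext y
    rw [mem_orbit_sub]
    constructor
    · rintro ⟨u, hu, rfl⟩
      exact (fixed_ne ((S.mem_U hA).1 hu).1 h).symm
    · intro hy
      obtain ⟨q, hq, he⟩ := htrans b y h (Ne.symm hy)
      exact ⟨q, hPU hq, he⟩
  rw [← S.card_compl a, ← horb]
  exact (orbit_mul _ _).symm

/-- The blocks of `b` and of a point `y` outside it, seen from the centraliser of `E`. -/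
theorem exists_C_blk (hA : S.Aff) (h : a ≠ b) {u : stabilizer G a} (hu : (u : G) ∈ S.U hA a)
    (hb : u • S.blk h = S.blk h) : ∃ c ∈ S.C hA a b, ∀ (hc : c ∈ stabilizer G a) (s : S.Blk a),
      (⟨c, hc⟩ : stabilizer G a) • s = u • s := by
  rw [smul_blk, eq_comm, S.blk_eq h] at hb
  obtain ⟨e, he, hem⟩ := S.exists_E hA h hb
  have hea : e ∈ stabilizer G a := S.K_le a (S.E_le hA a he)
  have heU : e ∈ S.U hA a := (S.mem_U hA).2 ⟨hea, fun v hv => S.E_comm hA he hv⟩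
  refine ⟨e⁻¹ * (u : G), ⟨(S.U hA a).mul_mem ((S.U hA a).inv_mem heU) hu, ?_⟩, fun hc s => ?_⟩
  · show (e⁻¹ * (u : G)) • b = b
    rw [mul_smul, inv_smul_eq_iff]; exact hem.symm
  · have e1 : (⟨e⁻¹ * (u : G), hc⟩ : stabilizer G a) = (⟨e, hea⟩ : stabilizer G a)⁻¹ * u := Subtype.ext rfl
    rw [e1, mul_smul, inv_smul_eq_iff, (S.mem_K_iff_blk hea).1 (S.E_le hA a he)]

/-- A nontrivial `C a b` fixes exactly the line of `a, b`. -/
theorem fix_C (hA : S.Aff) (h : a ≠ b) (hne : S.C hA a b ≠ ⊥) {z : Ω} :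
    (∀ g ∈ S.C hA a b, g • z = z) ↔ z ∈ S.L a b := by
  constructor
  · intro hz
    rcases eq_or_ne a z with rfl | haz
    · exact S.left_mem_L
    refine Set.mem_insert_of_mem _ ?_
    by_contra hzB
    have hneblk : S.blk h ≠ S.blk haz := fun e => hzB ((S.blk_eq h haz).1 e)
    obtain ⟨P, hPU, -, -, -, -, htrans⟩ := S.exists_P hA a
    haveI : IsPretransitive ((S.U hA a).subgroupOf (stabilizer G a)) (S.Blk a) := ⟨fun s t => by
      obtain ⟨x, hx, rfl⟩ := S.blk_surj s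
      obtain ⟨y, hy, rfl⟩ := S.blk_surj t
      obtain ⟨q, hq, he⟩ := htrans x y hx hy
      refine ⟨⟨⟨q, ((S.mem_U hA).1 (hPU hq)).1⟩, hPU hq⟩, ?_⟩
      show (⟨q, _⟩ : stabilizer G a) • S.blk hx = S.blk hy
      rw [smul_blk]
      exact Subtype.ext (congrArg (S.B a) he)⟩
    have hfix : ∀ u : (S.U hA a).subgroupOf (stabilizer G a),
        u • S.blk h = S.blk h → u • S.blk haz = S.blk haz := by
      intro u hu
      obtain ⟨c, hc, hcs⟩ := S.exists_C_blk hA h (u := u.1) u.2 hu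
      have hca : c ∈ stabilizer G a := (S.C_le hA a b hc).1
      show u.1 • S.blk haz = S.blk haz
      rw [← hcs hca, smul_blk]
      exact Subtype.ext (congrArg (S.B a) (hz c hc))
    refine hne (eq_bot_iff.2 fun g hg => Subgroup.mem_bot.2 (S.C_K_bot hA h hg ?_))
    have hga : g ∈ stabilizer G a := (S.C_le hA a b hg).1
    refine (S.mem_K_iff_blk hga).2 fun s => ?_
    refine fix_all_of_fix_second (H := (S.U hA a).subgroupOf (stabilizer G a)) S.prime (S.card_Blk a) hneblk hfix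
      (h := ⟨⟨g, hga⟩, hg.1⟩) ?_ s
    show (⟨g, hga⟩ : stabilizer G a) • S.blk h = S.blk h
    rw [smul_blk]
    exact Subtype.ext (congrArg (S.B a) (hg.2 : g • b = b))
  · rintro (rfl | hz) g hg
    · exact (S.C_le hA z b hg).1
    · exact S.C_fix_B hA h hg hz

theorem inter_C_bot (hA : S.Aff) (h : a ≠ b) {x : Ω} (hx : x ∈ S.B b a) (hxa : x ≠ a) (hxB : x ∉ S.B a b)
    {g : G} (hg : g ∈ S.C hA a b) (hg' : g ∈ S.C hA b a) : g = 1 := by
  have hax : a ≠ x := hxa.symm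
  have hne : S.blk h ≠ S.blk hax := fun e => hxB ((S.blk_eq h hax).1 e)
  have hga : g ∈ stabilizer G a := (S.C_le hA a b hg).1
  refine S.C_K_bot hA h hg ((S.mem_K_iff_blk hga).2 fun s => ?_)
  obtain ⟨P, hPU, -, -, -, -, htrans⟩ := S.exists_P hA a
  haveI : IsPretransitive ((S.U hA a).subgroupOf (stabilizer G a)) (S.Blk a) := ⟨fun s t => by
    obtain ⟨x, hx, rfl⟩ := S.blk_surj s
    obtain ⟨y, hy, rfl⟩ := S.blk_surj t
    obtain ⟨q, hq, he⟩ := htrans x y hx hy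
    refine ⟨⟨⟨q, ((S.mem_U hA).1 (hPU hq)).1⟩, hPU hq⟩, ?_⟩
    show (⟨q, _⟩ : stabilizer G a) • S.blk hx = S.blk hy
    rw [smul_blk]
    exact Subtype.ext (congrArg (S.B a) he)⟩
  have hgb : (⟨g, hga⟩ : stabilizer G a) • S.blk h = S.blk h := by
    rw [smul_blk]; exact Subtype.ext (congrArg (S.B a) (hg.2 : g • b = b))
  rcases two_trans_or_affine (H := (S.U hA a).subgroupOf (stabilizer G a)) S.prime (S.card_Blk a) with htt | haff
  · rcases eq_or_ne s (S.blk h) with rfl | hs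
    · exact hgb
    obtain ⟨u, hu1, hu2⟩ := htt (S.blk h) (S.blk hax) (S.blk h) s hne (Ne.symm hs)
    obtain ⟨c, hc, hcs⟩ := S.exists_C_blk hA h (u := u.1) u.2 hu1
    have hca : c ∈ stabilizer G a := (S.C_le hA a b hc).1
    have hcA := S.C_le hA a b hc
    have hcon : c⁻¹ * g * c ∈ S.C hA b a := by
      have := S.C_normal hA (u := c⁻¹) (k := g) (a := b) (b := a) (by rw [inf_comm]; exact inv_mem hcA) hg'
      rwa [inv_inv] at this
    have hfx : (c⁻¹ * g * c) • x = x := S.C_fix_B hA h.symm hcon hx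
    rw [mul_smul, mul_smul, inv_smul_eq_iff] at hfx
    have hs' : s = S.blk (fixed_ne hca hax) := by
      rw [← hu2]
      show u.1 • S.blk hax = _
      rw [← hcs hca, smul_blk]
    rw [hs', smul_blk]
    exact Subtype.ext (congrArg (S.B a) hfx)
  · refine haff.fix_two ⟨⟨g, hga⟩, hg.1⟩ (S.blk h) (S.blk hax) hne hgb ?_ s
    show (⟨g, hga⟩ : stabilizer G a) • S.blk hax = S.blk hax
    rw [smul_blk]
    exact Subtype.ext (congrArg (S.B a) (S.C_fix_B hA h.symm hg' hx))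

theorem card_C_lt (hA : S.Aff) (hp3 : 3 ≤ p) (h : a ≠ b) : Nat.card (S.C hA a b) < p := by
  by_cases hbot : S.C hA a b = ⊥
  · rw [hbot, Subgroup.card_bot]; omega
  obtain ⟨x, hx, hxa⟩ := S.exists_mem_ne h.symm
  have hcard : Nat.card (S.C hA a b) = Nat.card (S.C hA b a) := S.card_C_eq hA h h.symm
  have hbot' : S.C hA b a ≠ ⊥ := fun e => hbot (Subgroup.card_eq_one.1 (by rw [hcard, e, Subgroup.card_bot]))
  have hxB : x ∉ S.B a b := by
    intro hxB
    refine S.sym_false ⟨a, b, h, ?_⟩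
    have hle : S.C hA b a ≤ S.C hA a b := fun g hg => by
      have hg2 : g ∈ stabilizer G a ⊓ stabilizer G b := by rw [inf_comm]; exact S.C_le hA b a hg
      exact S.mem_C_of_fixed hA h hg2 hxB (S.ne h.symm hx) (S.C_fix_B hA h.symm hg hx)
    have he := Subgroup.eq_of_le_of_card_ge hle hcard.le
    ext z
    rw [← S.fix_C hA h hbot, ← S.fix_C hA h.symm hbot', he]
  have hsub : orbit (S.C hA a b) x ⊆ S.B b a \ {a} := by
    intro y hy
    obtain ⟨g, hg, rfl⟩ := mem_orbit_sub.1 hy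
    have hgA := S.C_le hA a b hg
    refine ⟨?_, fun e => hxa (smul_left_cancel g ((Set.mem_singleton_iff.1 e).trans (hgA.1 : g • a = a).symm))⟩
    have := (S.smul_mem_iff_fixed (g := g) (hgA.2 : g • b = b) h.symm (c := x)).2 hx
    rwa [show g • a = a from hgA.1] at this
  have hst : S.C hA a b ⊓ stabilizer G x = ⊥ := by
    refine eq_bot_iff.2 fun g hg => Subgroup.mem_bot.2 (S.inter_C_bot hA h hx hxa hxB hg.1 ?_)
    exact S.mem_C_of_fixed hA h.symm (by rw [inf_comm]; exact S.C_le hA a b hg.1) hx hxa hg.2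
  have h1 := orbit_mul (S.C hA a b) x
  rw [hst, Subgroup.card_bot, mul_one] at h1
  have h2 := Set.ncard_le_ncard hsub (Set.toFinite _)
  rw [Set.ncard_sdiff_singleton_of_mem (S.mem h.symm), S.card_B h.symm] at h2
  omega

theorem P_normal (hA : S.Aff) (hp3 : 3 ≤ p) {P : Subgroup G} (hPU : P ≤ S.U hA a) (hP : Nat.card P = p ^ 2)
    {g q : G} (hg : g • a = a) (hq : q ∈ P) : g * q * g⁻¹ ∈ P := by
  obtain ⟨b, h⟩ := S.exists_other a
  obtain ⟨P', hP'⟩ : ∃ P', P' = P.map (MulAut.conj g).toMonoidHom := ⟨_, rfl⟩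
  have hcard : Nat.card P' = p ^ 2 := by
    rw [hP', Subgroup.card_map_of_injective (MulAut.conj g).injective, hP]
  have hle : P' ≤ S.U hA a := by
    rw [hP']
    rintro _ ⟨k, hk, rfl⟩
    have := (S.U_conj hA g a k).1 (hPU hk)
    rwa [hg] at this
  have hb := card_inf_bound hPU hle
  rw [hP, hcard, S.card_U hA h, mul_assoc] at hb
  have hlt := S.card_C_lt hA hp3 h
  have h1 : p ^ 2 ≤ Nat.card (S.C hA a b) * Nat.card ↥(P ⊓ P') :=
    Nat.le_of_mul_le_mul_left hb (pow_pos S.prime.pos 2)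
  obtain ⟨i, hi, he⟩ := (Nat.dvd_prime_pow S.prime).1
    (hP ▸ Subgroup.card_dvd_of_le (inf_le_left : P ⊓ P' ≤ P))
  have hi2 : i = 2 := by
    by_contra hne
    have h2 : Nat.card ↥(P ⊓ P') ≤ p := by
      rw [he]
      calc p ^ i ≤ p ^ 1 := Nat.pow_le_pow_right S.prime.pos (by omega)
        _ = p := pow_one p
    have h3 : Nat.card (S.C hA a b) * Nat.card ↥(P ⊓ P') ≤ (p - 1) * p := Nat.mul_le_mul (by omega) h2
    have h4 : (p - 1) * p < p ^ 2 := by
      rw [pow_two]; exact Nat.mul_lt_mul_of_pos_right (by omega) (by omega)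
    omega
  have heq : P ⊓ P' = P' := Subgroup.eq_of_le_of_card_ge inf_le_right (by rw [hcard, he, hi2])
  have : g * q * g⁻¹ ∈ P ⊓ P' := heq.symm ▸ hP' ▸ ⟨q, hq, rfl⟩
  exact this.1

/-- Fixed points of subgroups of a two-point stabiliser are orbits of centralisers in `P`. -/
theorem fixed_orbit (hA : S.Aff) (hp3 : 3 ≤ p) (h : a ≠ b) {P : Subgroup G} (hPU : P ≤ S.U hA a)
    (hP : Nat.card P = p ^ 2) (hfree : ∀ x, a ≠ x → ∀ q ∈ P, q • x = x → q = 1)
    (htrans : ∀ x y, a ≠ x → a ≠ y → ∃ q ∈ P, q • x = y) {H : Set G}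
    (hH : ∀ g ∈ H, g • a = a ∧ g • b = b) (z : Ω) :
    (z ≠ a ∧ ∀ g ∈ H, g • z = z) ↔ z ∈ orbit (P ⊓ Subgroup.centralizer H : Subgroup G) b := by
  rw [mem_orbit_sub]
  constructor
  · rintro ⟨hza, hz⟩
    obtain ⟨q, hq, rfl⟩ := htrans b z h hza.symm
    refine ⟨q, ⟨hq, Subgroup.mem_centralizer_iff.2 fun g hg => ?_⟩, rfl⟩
    have hm := mul_mem (inv_mem hq) (S.P_normal hA hp3 hPU hP (hH g hg).1 hq)
    have := hfree b h _ hm (by
      rw [mul_smul, mul_smul, inv_smul_eq_iff.2 (hH g hg).2.symm, mul_smul, hz g hg, inv_smul_smul])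
    exact mul_inv_eq_iff_eq_mul.1 (inv_mul_eq_one.1 this).symm
  · rintro ⟨q, ⟨hq, hqc⟩, rfl⟩
    have hqa : q • a = a := ((S.mem_U hA).1 (hPU hq)).1
    refine ⟨(fixed_ne hqa h).symm, fun g hg => ?_⟩
    rw [← mul_smul, Subgroup.mem_centralizer_iff.1 hqc g hg, mul_smul, (hH g hg).2]

theorem C_bot_of (hA : S.Aff) (hp3 : 3 ≤ p) (h : a ≠ b) : S.C hA a b = ⊥ := by
  by_contra hne
  have hnb : ∀ c d : Ω, c ≠ d → S.C hA c d ≠ ⊥ := fun c d hcd e =>
    hne (Subgroup.card_eq_one.1 (by rw [S.card_C_eq hA h hcd, e, Subgroup.card_bot]))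
  refine S.master_false fun x y z hxy hz hzx => ?_
  obtain ⟨P, hPU, hP, -, -, hfree, htrans⟩ := S.exists_P hA x
  obtain ⟨T, hT⟩ : ∃ T, T = P ⊓ Subgroup.centralizer (S.C hA y x : Set G) := ⟨_, rfl⟩
  have horb : ∀ w, (w ∈ S.L y x ∧ w ≠ x) ↔ w ∈ orbit T y := by
    intro w
    rw [hT, ← S.fixed_orbit hA hp3 hxy hPU hP hfree htrans (fun g hg =>
      ⟨(S.C_le hA y x hg).2, (S.C_le hA y x hg).1⟩), ← S.fix_C hA hxy.symm (hnb y x hxy.symm)]
    exact and_comm
  obtain ⟨u, hu, rfl⟩ := mem_orbit_sub.1 ((horb z).1 ⟨hz, hzx⟩)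
  have hux : u • x = x := ((S.mem_U hA).1 (hPU (hT ▸ hu).1)).1
  ext w
  obtain ⟨v, rfl⟩ := MulAction.surjective u w
  simp only [Set.mem_sdiff, Set.mem_singleton_iff]
  have hL : u • v ∈ S.L (u • y) x ↔ v ∈ S.L y x := by
    conv_lhs => rw [← hux]
    exact S.mem_L_smul u hxy.symm
  rw [hL, horb]
  have hneq : (¬ u • v = x) ↔ ¬ v = x := by
    conv_lhs => rw [← hux]
    exact not_congr (smul_left_cancel_iff u)
  rw [hneq, horb, mem_orbit_sub, mem_orbit_sub]
  constructor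
  · rintro ⟨t, ht, rfl⟩
    exact ⟨u * t, mul_mem hu ht, mul_smul _ _ _⟩
  · rintro ⟨t, ht, he⟩
    exact ⟨u⁻¹ * t, mul_mem (inv_mem hu) ht, by rw [mul_smul, he, inv_smul_smul]⟩

theorem card_two_stab_lt (hA : S.Aff) (hp3 : 3 ≤ p) (h : a ≠ b) :
    Nat.card ↥(stabilizer G a ⊓ stabilizer G b) < p := by
  obtain ⟨x, hx, hxb⟩ := S.exists_mem_ne h
  have hst : stabilizer G a ⊓ stabilizer G b ⊓ stabilizer G x = ⊥ := by
    rw [eq_bot_iff, ← S.C_bot_of hA hp3 h]
    exact fun g hg => S.mem_C_of_fixed hA h hg.1 hx hxb hg.2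
  have h1 := orbit_mul (stabilizer G a ⊓ stabilizer G b) x
  rw [hst, Subgroup.card_bot, mul_one] at h1
  have hsub : orbit (stabilizer G a ⊓ stabilizer G b : Subgroup G) x ⊆ S.B a b \ {b} := by
    intro y hy
    obtain ⟨g, hg, rfl⟩ := mem_orbit_sub.1 hy
    refine ⟨?_, fun e => hxb (smul_left_cancel g ((Set.mem_singleton_iff.1 e).trans (hg.2 : g • b = b).symm))⟩
    have := (S.smul_mem_iff_fixed (g := g) (hg.1 : g • a = a) h (c := x)).2 hx
    rwa [show g • b = b from hg.2] at this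
  have h2 := Set.ncard_le_ncard hsub (Set.toFinite _)
  rw [Set.ncard_sdiff_singleton_of_mem (S.mem h), S.card_B h] at h2
  omega

theorem involution_unique (hA : S.Aff) (hp3 : 3 ≤ p) (h : a ≠ b) :
    ∃ t ∈ stabilizer G a ⊓ stabilizer G b, t ≠ 1 ∧ t * t = 1 ∧
      ∀ t' ∈ stabilizer G a ⊓ stabilizer G b, t' * t' = 1 → t' ≠ 1 → t' = t := by
  haveI := Fact.mk Nat.prime_two
  obtain ⟨t, ht⟩ := exists_prime_orderOf_dvd_card' (G := ↥(stabilizer G a ⊓ stabilizer G b)) 2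
    (S.even_two_stab hp3 h).two_dvd
  have ht1 : (t : G) ≠ 1 := fun e => by
    rw [← Subgroup.orderOf_coe, e, orderOf_one] at ht; omega
  have ht2 : (t : G) * t = 1 := by
    rw [← pow_two, ← ht, ← Subgroup.orderOf_coe, pow_orderOf_eq_one]
  obtain ⟨e, he, he1⟩ : ∃ e ∈ S.E hA a, e ≠ 1 := by
    by_contra hcon
    push Not at hcon
    exact S.E_ne_bot hA a (eq_bot_iff.2 fun k hk => Subgroup.mem_bot.2 (hcon k hk))
  have key : ∀ s ∈ stabilizer G a ⊓ stabilizer G b, s * s = 1 → s ≠ 1 → s * e * s⁻¹ = e⁻¹ := by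
    intro s hs hs2 hs1
    obtain ⟨f, hf⟩ : ∃ f, f = s * e * s⁻¹ := ⟨_, rfl⟩
    have hfE : f ∈ S.E hA a := hf ▸ S.E_normal hA hs.1 he
    rw [← hf]
    by_contra hne
    have hef : e * f ≠ 1 := fun h1 => hne (inv_eq_of_mul_eq_one_right h1).symm
    have hsinv : s⁻¹ = s := inv_eq_of_mul_eq_one_right hs2
    have hf2 : f = s * e * s := by rw [hf, hsinv]
    have h1 : s * e = f * s := by rw [hf2, mul_assoc, hs2, mul_one]
    have h2 : s * f = e * s := by rw [hf2, ← mul_assoc, ← mul_assoc, hs2, one_mul]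
    have hc : s * (e * f) = (e * f) * s := by
      rw [← mul_assoc, h1, mul_assoc, h2, ← mul_assoc, S.E_comm hA hfE he]
    exact hs1 (Subgroup.mem_bot.1 (S.C_bot_of hA hp3 h ▸
      ⟨(S.mem_U hA).2 ⟨hs.1, S.comm_of_one hA (mul_mem he hfE) hef hc⟩, hs.2⟩))
  refine ⟨t, t.2, ht1, ht2, fun t' ht' h2' h1' => ?_⟩
  have e1 := key t t.2 ht2 ht1
  have e2 := key t' ht' h2' h1'
  have hin : (t' * (t : G)) * e⁻¹ = e⁻¹ * (t' * (t : G)) := by
    have e3 : (t : G) * e⁻¹ * (t : G)⁻¹ = e := by rw [← conj_inv, e1, inv_inv]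
    have e4 : t' * e * t'⁻¹ = e⁻¹ := e2
    calc (t' * (t : G)) * e⁻¹ = t' * ((t : G) * e⁻¹ * (t : G)⁻¹) * (t : G) := by group
      _ = (t' * e * t'⁻¹) * (t' * (t : G)) := by rw [e3]; group
      _ = _ := by rw [e4]
  have hm := mul_mem ht' t.2
  have : t' * (t : G) = 1 := Subgroup.mem_bot.1 (S.C_bot_of hA hp3 h ▸
    ⟨(S.mem_U hA).2 ⟨hm.1, S.comm_of_one hA (inv_mem he) (inv_ne_one.2 he1) hin⟩, hm.2⟩)
  rw [← inv_eq_of_mul_eq_one_left this, inv_eq_of_mul_eq_one_right ht2]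

theorem affine_false (hA : S.Aff) (hp3 : 3 ≤ p) : False := by
  classical
  have hex : ∀ a b : Ω, ∃ t : G, a ≠ b → t ∈ stabilizer G a ⊓ stabilizer G b ∧ t ≠ 1 ∧ t * t = 1 ∧
      ∀ t' ∈ stabilizer G a ⊓ stabilizer G b, t' * t' = 1 → t' ≠ 1 → t' = t := by
    intro a b
    by_cases h : a = b
    · exact ⟨1, fun hn => absurd h hn⟩
    · obtain ⟨t, ht⟩ := S.involution_unique hA hp3 h
      exact ⟨t, fun _ => ht⟩
  choose T hT using hex
  have hfl : ∀ a b : Ω, a ≠ b → T a b • a = a := fun a b h => (hT a b h).1.1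
  have hfr : ∀ a b : Ω, a ≠ b → T a b • b = b := fun a b h => (hT a b h).1.2
  have hconj : ∀ (g : G) (a b : Ω), a ≠ b → T (g • a) (g • b) = g * T a b * g⁻¹ := by
    intro g a b h
    refine ((hT _ _ (inv_smul_ne g h)).2.2.2 _ ⟨?_, ?_⟩ ?_ ?_).symm
    · show (g * T a b * g⁻¹) • g • a = g • a
      rw [mul_smul, mul_smul, inv_smul_smul, hfl a b h]
    · show (g * T a b * g⁻¹) • g • b = g • b
      rw [mul_smul, mul_smul, inv_smul_smul, hfr a b h]
    · rw [conj_mul, (hT a b h).2.2.1, mul_one, mul_inv_cancel]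
    · exact fun e => (hT a b h).2.1 (conj_eq_one_iff.1 e)
  obtain ⟨M, hM⟩ : ∃ M : Ω → Ω → Set Ω, M = fun a b => {z | T a b • z = z} := ⟨_, rfl⟩
  have hcardM : ∀ {a b c d : Ω}, a ≠ b → c ≠ d → (M c d).ncard = (M a b).ncard := by
    intro a b c d h h'
    obtain ⟨g, rfl, rfl⟩ := S.tt h h'
    refine Eq.trans ?_ (Set.ncard_image_of_injective _ (MulAction.injective g))
    congr 1
    rw [hM]
    ext z
    obtain ⟨w, rfl⟩ := MulAction.surjective g z
    rw [(MulAction.injective g).mem_set_image]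
    show T (g • a) (g • b) • g • w = g • w ↔ T a b • w = w
    rw [hconj g a b h, mul_smul, mul_smul, inv_smul_smul, smul_left_cancel_iff]
  obtain ⟨a⟩ : Nonempty Ω := Nat.card_pos_iff.1 (by rw [S.card_univ]; omega) |>.1
  obtain ⟨b, h⟩ := S.exists_other a
  obtain ⟨P, hPU, hP, hEP, -, hfree, htrans⟩ := S.exists_P hA a
  obtain ⟨W, hW⟩ : ∃ W, W = P ⊓ Subgroup.centralizer ({T a b} : Set G) := ⟨_, rfl⟩
  have hMeq : M a b = insert a (orbit W b) := by
    ext z
    rw [Set.mem_insert_iff, hW, ← S.fixed_orbit hA hp3 h hPU hP hfree htrans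
      (fun g hg => by rw [Set.mem_singleton_iff.1 hg]; exact ⟨hfl a b h, hfr a b h⟩), hM]
    show T a b • z = z ↔ _
    rcases eq_or_ne z a with rfl | hz
    · simp [hfl z b h]
    · simp [hz]
  have hMc : (M a b).ncard = Nat.card W + 1 := by
    rw [hMeq, Set.ncard_insert_of_notMem _ (Set.toFinite _)]
    · have h1 := orbit_mul W b
      have hb : W ⊓ stabilizer G b = ⊥ :=
        eq_bot_iff.2 fun q hq => Subgroup.mem_bot.2 (hfree b h q (hW ▸ hq.1).1 hq.2)
      rw [hb, Subgroup.card_bot, mul_one] at h1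
      rw [h1]
    · intro hm
      obtain ⟨q, hq, he⟩ := mem_orbit_sub.1 hm
      exact fixed_ne ((S.mem_U hA).1 (hPU (hW ▸ hq).1)).1 h he.symm
  obtain ⟨i, hi, hiW⟩ := (Nat.dvd_prime_pow S.prime).1
    (hP ▸ Subgroup.card_dvd_of_le (hW ▸ inf_le_left : W ≤ P))
  rw [hiW] at hMc
  interval_cases i
  · -- exactly two fixed points
    refine S.involution_count hp3 h (S.card_two_stab_lt hA hp3 h) T (fun c d hcd => (hT c d hcd).2.2.1)
      fun c d hcd x => ⟨fun hx => ?_, ?_⟩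
    · have hset : ({c, d} : Set Ω) = M c d := by
        refine Set.eq_of_subset_of_ncard_le ?_ ?_ (Set.toFinite _)
        · rw [hM]
          rintro y (rfl | rfl)
          · exact hfl y d hcd
          · exact hfr c y hcd
        · rw [hcardM h hcd, hMc, pow_zero, Set.ncard_pair hcd]
      have : x ∈ M c d := by rw [hM]; exact hx
      rw [← hset] at this
      exact this
    · rintro (rfl | rfl)
      · exact hfl x d hcd
      · exact hfr c x hcd
  · refine design_false S.prime S.card_univ M (fun c d hcd => by rw [hcardM h hcd, hMc, pow_one])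
      (fun c d hcd => by rw [hM]; exact hfl c d hcd) (fun c d hcd => by rw [hM]; exact hfr c d hcd)
      (fun c d hcd => ?_) fun c d z hcd hz hzc => ?_
    · rw [hM]
      show {z | T c d • z = z} = {z | T d c • z = z}
      rw [(hT d c hcd.symm).2.2.2 (T c d) ⟨hfr c d hcd, hfl c d hcd⟩ (hT c d hcd).2.2.1 (hT c d hcd).2.1]
    · rw [hM] at hz ⊢
      show {x | T c z • x = x} = {x | T c d • x = x}
      rw [(hT c z hzc.symm).2.2.2 (T c d) ⟨hfl c d hcd, hz⟩ (hT c d hcd).2.2.1 (hT c d hcd).2.1]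
  · have hWP : W = P := Subgroup.eq_of_le_of_card_ge (hW ▸ inf_le_left) (by rw [hiW, hP])
    refine (hT a b h).2.1 (Subgroup.mem_bot.1 (S.C_bot_of hA hp3 h ▸
      ⟨(S.mem_U hA).2 ⟨hfl a b h, fun e he => ?_⟩, hfr a b h⟩))
    have := hWP.symm ▸ hEP he
    rw [hW] at this
    exact Subgroup.mem_centralizer_iff.1 this.2 _ rfl

end Sys

end CfsgLib.PGroup.DoublyPrimitive
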