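import Mathlib

/-!
# Counting lemmas for degree `p ^ 2 + 1`

Orbit-stabiliser, double counting, and small facts about groups acting on a set of prime size.
-/

set_option autoImplicit false
set_option linter.unusedSectionVars false
set_option linter.style.haveILetI false

namespace CfsgLib.PGroup.DoublyPrimitive

open MulAction

variable {G Ω : Type*} [Group G] [Finite G] [Finite Ω] [MulAction G Ω]

theorem mem_orbit_sub {H : Subgroup G} {x y : Ω} : y ∈ orbit H x ↔ ∃ h ∈ H, h • x = y :=
  ⟨fun ⟨⟨h, hh⟩, e⟩ => ⟨h, hh, e⟩, fun ⟨h, hh, e⟩ => ⟨⟨h, hh⟩, e⟩⟩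

theorem orbit_mul (H : Subgroup G) (x : Ω) :
    (orbit H x).ncard * Nat.card ↥(H ⊓ stabilizer G x) = Nat.card H := by
  have e : Nat.card (stabilizer H x) = Nat.card ↥(H ⊓ stabilizer G x) :=
    Nat.card_congr ⟨fun h => ⟨(h.1 : G), h.1.2, h.2⟩, fun g => ⟨⟨g.1, g.2.1⟩, g.2.2⟩, fun _ => rfl, fun _ => rfl⟩
  have h := Nat.card_congr (orbitProdStabilizerEquivGroup H x)
  rwa [Nat.card_prod, Nat.card_coe_set_eq, e] at h

theorem orbit_eq_of_mem {H : Subgroup G} {x y : Ω} (h : y ∈ orbit H x) : orbit H y = orbit H x :=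
  orbit_eq_iff.2 h

theorem one_le_orbit (H : Subgroup G) (x : Ω) : 1 ≤ (orbit H x).ncard :=
  (Set.ncard_pos (Set.toFinite _)).2 ⟨x, mem_orbit_self x⟩

/-- Double counting of a relation with constant row and column sums. -/
theorem double_count {α β : Type*} [Finite α] [Finite β] (R : α → β → Prop) (A : Set α) (B : Set β) {u v : ℕ}
    (hA : ∀ x ∈ A, {y | y ∈ B ∧ R x y}.ncard = u) (hB : ∀ y ∈ B, {x | x ∈ A ∧ R x y}.ncard = v) :
    A.ncard * u = B.ncard * v := by
  classical
  haveI := Fintype.ofFinite α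
  haveI := Fintype.ofFinite β
  rw [Set.ncard_eq_toFinset_card' A, Set.ncard_eq_toFinset_card' B]
  refine Finset.card_mul_eq_card_mul (r := R) ?_ ?_
  · intro x hx
    rw [← hA x (Set.mem_toFinset.1 hx), Set.ncard_eq_toFinset_card']
    congr 1
    ext y
    simp [Finset.mem_bipartiteAbove]
  · intro y hy
    rw [← hB y (Set.mem_toFinset.1 hy), Set.ncard_eq_toFinset_card']
    congr 1
    ext x
    simp [Finset.mem_bipartiteBelow]

/-- A set partitioned into fibres of a common size. -/
theorem ncard_eq_mul_image {α β : Type*} [Finite α] (f : α → β) (A : Set α) {u : ℕ}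
    (h : ∀ x ∈ A, {y | y ∈ A ∧ f y = f x}.ncard = u) : A.ncard = (f '' A).ncard * u := by
  classical
  haveI := Fintype.ofFinite α
  rw [Set.ncard_eq_toFinset_card' A, Set.ncard_eq_toFinset_card' (f '' A), Set.toFinset_image]
  rw [Finset.card_eq_sum_card_image f A.toFinset, Finset.sum_const_nat]
  intro b hb
  obtain ⟨x, hx, rfl⟩ := Finset.mem_image.1 hb
  rw [← h x (Set.mem_toFinset.1 hx), Set.ncard_eq_toFinset_card']
  congr 1
  ext y
  simp

theorem card_eq_of_conj (g : G) {H H' : Subgroup G} (h : ∀ x, x ∈ H ↔ g * x * g⁻¹ ∈ H') :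
    Nat.card H = Nat.card H' :=
  Nat.card_congr ((MulAut.conj g).toEquiv.subtypeEquiv h)

theorem card_mul_relIndex {A B : Subgroup G} (h : A ≤ B) : Nat.card A * A.relIndex B = Nat.card B := by
  rw [← Subgroup.card_mul_index (A.subgroupOf B), Nat.card_congr (Subgroup.subgroupOfEquivOfLe h).toEquiv]
  rfl

theorem card_inf_bound {A B U : Subgroup G} (hA : A ≤ U) (hB : B ≤ U) :
    Nat.card A * Nat.card B ≤ Nat.card U * Nat.card ↥(A ⊓ B) := by
  have hne : A.relIndex U ≠ 0 := fun h => by
    have := card_mul_relIndex hA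
    rw [h, mul_zero] at this
    exact Nat.card_pos.ne this
  have h1 : A.relIndex B ≤ A.relIndex U := Subgroup.relIndex_le_of_le_right hB hne
  have h2 : Nat.card ↥(A ⊓ B) * A.relIndex B = Nat.card B := by
    rw [← Subgroup.inf_relIndex_right]; exact card_mul_relIndex inf_le_right
  calc Nat.card A * Nat.card B = Nat.card A * A.relIndex B * Nat.card ↥(A ⊓ B) := by rw [← h2]; ring
    _ ≤ Nat.card A * A.relIndex U * Nat.card ↥(A ⊓ B) :=
        Nat.mul_le_mul_right _ (Nat.mul_le_mul_left _ h1)
    _ = Nat.card U * Nat.card ↥(A ⊓ B) := by rw [card_mul_relIndex hA]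

variable {p : ℕ}

theorem sq_not_dvd_factorial (hp : p.Prime) : ¬ p ^ 2 ∣ p.factorial := by
  intro h
  obtain ⟨n, rfl⟩ : ∃ n, p = n + 1 := ⟨p - 1, by have := hp.pos; omega⟩
  rw [pow_two, Nat.factorial_succ, Nat.mul_dvd_mul_iff_left (by omega), hp.dvd_factorial] at h
  omega

/-- A `p`-element acting on `p` points has its `p`-th power acting trivially. -/
theorem pow_p_smul {H α : Type*} [Group H] [Finite α] [MulAction H α] (hp : p.Prime) (hc : Nat.card α = p)
    {g : H} {j : ℕ} (hg : g ^ p ^ j = 1) (x : α) : g ^ p • x = x := by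
  classical
  haveI := Fintype.ofFinite α
  have h1 : (MulAction.toPermHom H α g) ^ p ^ j = 1 := by rw [← map_pow, hg, map_one]
  obtain ⟨i, hi, ho⟩ := (Nat.dvd_prime_pow hp).1 (orderOf_dvd_of_pow_eq_one h1)
  have h2 : orderOf (MulAction.toPermHom H α g) ∣ p.factorial := by
    rw [← hc, Nat.card_eq_fintype_card, ← Fintype.card_perm]
    exact orderOf_dvd_card
  have hi1 : i ≤ 1 := by
    by_contra hcon
    exact sq_not_dvd_factorial hp ((pow_dvd_pow p (by omega)).trans (ho ▸ h2))
  have h3 : MulAction.toPermHom H α g ^ p = 1 :=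
    orderOf_dvd_iff_pow_eq_one.1 (ho ▸ (pow_dvd_pow p hi1).trans (pow_one p).dvd)
  rw [← map_pow] at h3
  exact DFunLike.congr_fun h3 x

/-- A permutation of order dividing `p` of `p` points fixing one point is trivial. -/
theorem smul_eq_of_fixed {H α : Type*} [Group H] [Finite α] [MulAction H α] (hp : p.Prime) (hc : Nat.card α = p)
    {g : H} (hg : ∀ x : α, g ^ p • x = x) {x₀ : α} (hx : g • x₀ = x₀) (x : α) : g • x = x := by
  classical
  haveI := Fintype.ofFinite α
  obtain ⟨σ, hσ⟩ : ∃ σ, σ = MulAction.toPermHom H α g := ⟨_, rfl⟩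
  suffices h : σ = 1 by
    rw [hσ] at h
    exact DFunLike.congr_fun h x
  by_contra hne
  have h1 : σ ^ p = 1 := by
    rw [hσ, ← map_pow]
    exact Equiv.ext fun y => hg y
  have ho : orderOf σ = p := by
    haveI := Fact.mk hp
    exact orderOf_eq_prime h1 hne
  obtain ⟨i, hi⟩ := Equiv.Perm.cycleType_prime_order (ho.symm ▸ hp)
  have h2 := σ.sum_cycleType
  rw [hi, ho, Multiset.sum_replicate, smul_eq_mul] at h2
  have h3 : x₀ ∉ σ.support := by
    rw [Equiv.Perm.mem_support, not_not, hσ]
    exact hx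
  have h4 : σ.support.card < p := by
    rw [← hc, Nat.card_eq_fintype_card]
    exact Finset.card_lt_univ_of_notMem h3
  have h5 : p ≤ (i + 1) * p := Nat.le_mul_of_pos_left p (by omega)
  omega

/-- In a transitive group of prime degree, if the stabiliser of a point fixes a second point, it fixes all. -/
theorem fix_all_of_fix_second {H α : Type*} [Group H] [Finite H] [MulAction H α] [IsPretransitive H α]
    (hp : p.Prime) (hc : Nat.card α = p) {x y : α} (hxy : x ≠ y) (hfix : ∀ h : H, h • x = x → h • y = y)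
    {h : H} (hh : h • x = x) (z : α) : h • z = z := by
  obtain ⟨S, hS⟩ : ∃ S, S = stabilizer H x := ⟨_, rfl⟩
  have hidx : S.index = p := by rw [hS, index_stabilizer_of_transitive, hc]
  have hidy : (stabilizer H y).index = p := by rw [index_stabilizer_of_transitive, hc]
  have hSy : S = stabilizer H y := by
    refine Subgroup.eq_of_le_of_card_ge (by rw [hS]; exact hfix) (le_of_eq ?_)
    have h1 := S.card_mul_index
    have h2 := (stabilizer H y).card_mul_index
    rw [hidx] at h1
    rw [hidy, ← h1] at h2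
    exact Nat.eq_of_mul_eq_mul_right hp.pos h2
  obtain ⟨g, hg⟩ := exists_smul_eq H x y
  have hgN : g ∈ Subgroup.normalizer (S : Set H) := by
    rw [Subgroup.mem_normalizer_iff]
    intro u
    conv_rhs => rw [hSy]
    rw [hS, mem_stabilizer_iff, mem_stabilizer_iff, mul_smul, mul_smul, ← hg, inv_smul_smul, smul_left_cancel_iff]
  have hgS : g ∉ S := by
    rw [hS, mem_stabilizer_iff, hg]
    exact Ne.symm hxy
  have hN : Subgroup.normalizer (S : Set H) = ⊤ := by
    rw [← Subgroup.index_eq_one]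
    have hd := Subgroup.index_dvd_of_le (Subgroup.le_normalizer (H := S))
    rw [hidx] at hd
    refine ((Nat.dvd_prime hp).1 hd).resolve_right fun hNp => hgS ?_
    have heq : S = Subgroup.normalizer (S : Set H) := by
      refine Subgroup.eq_of_le_of_card_ge Subgroup.le_normalizer (le_of_eq ?_)
      have h1 := S.card_mul_index
      have h2 := (Subgroup.normalizer (S : Set H)).card_mul_index
      rw [hidx] at h1
      rw [hNp, ← h1] at h2
      exact Nat.eq_of_mul_eq_mul_right hp.pos h2
    rw [heq]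
    exact hgN
  obtain ⟨u, rfl⟩ := exists_smul_eq H x z
  have hu : u⁻¹ ∈ Subgroup.normalizer (S : Set H) := hN ▸ Subgroup.mem_top _
  have := (Subgroup.mem_normalizer_iff.1 hu h).1 (hS ▸ hh)
  rw [hS, mem_stabilizer_iff, inv_inv, mul_smul, mul_smul, inv_smul_eq_iff] at this
  exact this

end CfsgLib.PGroup.DoublyPrimitive
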