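import Cfsg.Agent.Lib.PGroup.DoublyPrimitive.Prime

/-!
# Block systems in 2-transitive groups of degree `p ^ 2 + 1`

`Sys` is an equivariant choice of a system of `p` blocks of size `p` for every point stabiliser.
`L a b` is the block of `b` together with `a`; symmetric lines would give an impossible design.
`K a` is the kernel of the stabiliser of `a` on its blocks.
-/

set_option autoImplicit false
set_option linter.unusedSectionVars false
set_option linter.style.haveILetI false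

namespace CfsgLib.PGroup.DoublyPrimitive

open MulAction

/-- Blocks for all point stabilisers of a 2-transitive group of degree `p ^ 2 + 1`. -/
structure Sys (G Ω : Type*) [Group G] [MulAction G Ω] (p : ℕ) where
  B : Ω → Ω → Set Ω
  prime : p.Prime
  card_univ : Nat.card Ω = p ^ 2 + 1
  tt : ∀ {a b c d : Ω}, a ≠ b → c ≠ d → ∃ g : G, g • a = c ∧ g • b = d
  smul_mem : ∀ (g : G) {a b c : Ω}, a ≠ b → c ∈ B a b → g • c ∈ B (g • a) (g • b)
  mem : ∀ {a b : Ω}, a ≠ b → b ∈ B a b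
  ne : ∀ {a b c : Ω}, a ≠ b → c ∈ B a b → c ≠ a
  eq_of_mem : ∀ {a b c : Ω}, a ≠ b → c ∈ B a b → B a c = B a b
  card_B : ∀ {a b : Ω}, a ≠ b → (B a b).ncard = p

variable {G Ω : Type*} [Group G] [Finite G] [Finite Ω] [MulAction G Ω] [FaithfulSMul G Ω] {p : ℕ}

/-- No system of symmetric lines with `p + 1` points each on `p ^ 2 + 1` points. -/
theorem design_false (hp : p.Prime) (hn : Nat.card Ω = p ^ 2 + 1) (M : Ω → Ω → Set Ω)
    (hcard : ∀ a b, a ≠ b → (M a b).ncard = p + 1) (hl : ∀ a b, a ≠ b → a ∈ M a b)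
    (hr : ∀ a b, a ≠ b → b ∈ M a b) (hsym : ∀ a b, a ≠ b → M a b = M b a)
    (hclo : ∀ a b c, a ≠ b → c ∈ M a b → c ≠ a → M a c = M a b) : False := by
  classical
  haveI := Fintype.ofFinite Ω
  have key : ∀ a b, a ≠ b → ∀ c d, c ∈ M a b → d ∈ M a b → c ≠ d → M c d = M a b := by
    intro a b hab c d hc hd hcd
    rcases eq_or_ne c a with rfl | hca
    · exact hclo c b d hab hd hcd.symm
    rcases eq_or_ne d a with rfl | hda
    · rw [hsym c d hcd, hclo d b c hab hc hcd]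
    have h1 : M a c = M a b := hclo a b c hab hc hca
    have h2 : d ∈ M c a := by rw [← hsym a c hca.symm, h1]; exact hd
    rw [hclo c a d hca h2 hcd.symm, ← hsym a c hca.symm, h1]
  have h := Finset.card_eq_sum_card_image (fun q : Ω × Ω => M q.1 q.2) (Finset.univ : Finset Ω).offDiag
  rw [Finset.sum_const_nat (m := (p + 1) * p)] at h
  · rw [Finset.offDiag_card, Finset.card_univ, ← Nat.card_eq_fintype_card, hn] at h
    have hd : (p + 1) ∣ (p ^ 2 + 1) * p ^ 2 := ⟨(Finset.image (fun q : Ω × Ω => M q.1 q.2)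
      (Finset.univ : Finset Ω).offDiag).card * p, by
      rw [← Nat.mul_sub_one, Nat.add_sub_cancel] at h
      rw [h]; ring⟩
    have hco : Nat.Coprime (p + 1) (p ^ 2) :=
      Nat.Coprime.pow_right _ ((Nat.coprime_self_add_left).2 (Nat.coprime_one_left p))
    have hd2 : (p + 1) ∣ p ^ 2 + 1 := hco.dvd_of_dvd_mul_right hd
    have hd3 : ((p : ℤ) + 1) ∣ (p : ℤ) ^ 2 + 1 := by exact_mod_cast hd2
    have h2 : ((p : ℤ) + 1) ∣ 2 := by
      have h4 := dvd_sub hd3 (dvd_mul_right ((p : ℤ) + 1) ((p : ℤ) - 1))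
      have e : (p : ℤ) ^ 2 + 1 - ((p : ℤ) + 1) * ((p : ℤ) - 1) = 2 := by ring
      rwa [e] at h4
    have h5 := Int.le_of_dvd two_pos h2
    have := hp.two_le
    omega
  · intro ℓ hℓ
    obtain ⟨⟨a, b⟩, hab, rfl⟩ := Finset.mem_image.1 hℓ
    have hab' : a ≠ b := by simpa using hab
    have : Finset.filter (fun q : Ω × Ω => M q.1 q.2 = M a b) (Finset.univ : Finset Ω).offDiag
        = (M a b).toFinset.offDiag := by
      ext ⟨c, d⟩
      simp only [Finset.mem_filter, Finset.mem_offDiag, Finset.mem_univ, true_and, Set.mem_toFinset]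
      exact ⟨fun ⟨hcd, e⟩ => ⟨e ▸ hl c d hcd, e ▸ hr c d hcd, hcd⟩,
        fun ⟨hc, hd, hcd⟩ => ⟨hcd, key a b hab' c d hc hd hcd⟩⟩
    simp only
    rw [this, Finset.offDiag_card, ← Set.ncard_eq_toFinset_card', hcard a b hab', ← Nat.mul_sub_one,
      Nat.add_sub_cancel]

namespace Sys

theorem inv_smul_ne (g : G) {a b : Ω} (h : a ≠ b) : g • a ≠ g • b := fun e => h (smul_left_cancel g e)

theorem fixed_ne {g : G} {a : Ω} (hg : g ∈ stabilizer G a) {x : Ω} (h : a ≠ x) : a ≠ g • x := by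
  intro e
  apply h
  exact smul_left_cancel g ((hg : g • a = a).trans e)

/-- Equal orbit sizes for a subgroup of the stabiliser normalised by it. -/
theorem orbit_conj {H : Subgroup G} {g : G} (hH : ∀ k, k ∈ H ↔ g * k * g⁻¹ ∈ H) (x : Ω) :
    (orbit H (g • x)).ncard = (orbit H x).ncard := by
  have e : orbit H (g • x) = (fun y => g • y) '' orbit H x := by
    ext z
    rw [mem_orbit_sub, Set.mem_image]
    constructor
    · rintro ⟨k, hk, rfl⟩
      refine ⟨(g⁻¹ * k * g) • x, mem_orbit_sub.2 ⟨_, (hH _).2 (by simpa [mul_assoc] using hk), rfl⟩, ?_⟩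
      rw [mul_smul, mul_smul, smul_inv_smul]
    · rintro ⟨_, hy, rfl⟩
      obtain ⟨k, hk, rfl⟩ := mem_orbit_sub.1 hy
      exact ⟨g * k * g⁻¹, (hH k).1 hk, by rw [mul_smul, mul_smul, inv_smul_smul]⟩
  rw [e, Set.ncard_image_of_injective _ (MulAction.injective g)]

theorem normal_iff {H : Subgroup G} {a : Ω} (hH : ∀ g : G, g • a = a → ∀ k ∈ H, g * k * g⁻¹ ∈ H)
    {g : G} (hg : g • a = a) (k : G) : k ∈ H ↔ g * k * g⁻¹ ∈ H := by
  refine ⟨hH g hg k, fun h => ?_⟩
  have := hH g⁻¹ (inv_smul_eq_iff.2 hg.symm) _ h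
  simpa [mul_assoc] using this

variable (S : Sys G Ω p) {a b c : Ω}
include S

theorem mem_smul_iff (g : G) (h : a ≠ b) : g • c ∈ S.B (g • a) (g • b) ↔ c ∈ S.B a b := by
  refine ⟨fun hc => ?_, S.smul_mem g h⟩
  have := S.smul_mem g⁻¹ (inv_smul_ne g h) hc
  rwa [inv_smul_smul, inv_smul_smul, inv_smul_smul] at this

theorem mem_symm (h : a ≠ b) (hc : c ∈ S.B a b) : b ∈ S.B a c := by
  rw [S.eq_of_mem h hc]; exact S.mem h

theorem smul_mem_iff_fixed {g : G} (ha : g • a = a) (h : a ≠ b) : g • c ∈ S.B a (g • b) ↔ c ∈ S.B a b := by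
  conv_lhs => rw [← ha]
  exact S.mem_smul_iff g h

/-- The block of `b` together with `a`. -/
def L (a b : Ω) : Set Ω := insert a (S.B a b)

theorem mem_L : c ∈ S.L a b ↔ c = a ∨ c ∈ S.B a b := Iff.rfl

theorem left_mem_L : a ∈ S.L a b := Set.mem_insert _ _

theorem right_mem_L (h : a ≠ b) : b ∈ S.L a b := Set.mem_insert_of_mem _ (S.mem h)

theorem card_L (h : a ≠ b) : (S.L a b).ncard = p + 1 := by
  rw [L, Set.ncard_insert_of_notMem (fun hm => S.ne h hm rfl) (Set.toFinite _), S.card_B h]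

theorem mem_L_smul (g : G) (h : a ≠ b) : g • c ∈ S.L (g • a) (g • b) ↔ c ∈ S.L a b := by
  rw [mem_L, mem_L, smul_left_cancel_iff, S.mem_smul_iff g h]

theorem L_eq_of_mem (h : a ≠ b) (hc : c ∈ S.L a b) (hca : c ≠ a) : S.L a c = S.L a b := by
  rw [L, L, S.eq_of_mem h ((S.mem_L).1 hc |>.resolve_left hca)]

theorem exists_mem_ne (h : a ≠ b) : ∃ x ∈ S.B a b, x ≠ b :=
  Set.exists_ne_of_one_lt_ncard (by rw [S.card_B h]; exact S.prime.one_lt) b

theorem sym_false (h : ∃ x y : Ω, x ≠ y ∧ S.L x y = S.L y x) : False := by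
  obtain ⟨x, y, hxy, he⟩ := h
  refine design_false S.prime S.card_univ S.L (fun a b h => S.card_L h) (fun a b h => S.left_mem_L)
    (fun a b h => S.right_mem_L h) (fun a b hab => ?_) fun a b c hab hc hca => S.L_eq_of_mem hab hc hca
  obtain ⟨g, rfl, rfl⟩ := S.tt hxy hab
  ext z
  obtain ⟨w, rfl⟩ := MulAction.surjective g z
  rw [S.mem_L_smul g hxy, S.mem_L_smul g hxy.symm, he]

/-- If the set `L b a` minus `a` is constant on its points then the blocks give a design. -/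
theorem master_false
    (h : ∀ a b c : Ω, a ≠ b → c ∈ S.L b a → c ≠ a → S.L c a \ {a} = S.L b a \ {a}) : False := by
  have h' : ∀ a b c : Ω, a ≠ b → c ∈ S.L b a → c ≠ a → S.L c a = S.L b a := by
    intro a b c hab hc hca
    have := h a b c hab hc hca
    rw [← Set.insert_eq_of_mem (S.right_mem_L hca), ← Set.insert_eq_of_mem (S.right_mem_L hab.symm),
      ← Set.insert_diff_singleton, this, Set.insert_diff_singleton]
  obtain ⟨a, b, hab⟩ : ∃ a b : Ω, a ≠ b := by
    haveI : Nontrivial Ω := Finite.one_lt_card_iff_nontrivial.1 (by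
      rw [S.card_univ]; have := pow_pos S.prime.pos 2; omega)
    exact exists_pair_ne Ω
  obtain ⟨x, hx, hxb⟩ := S.exists_mem_ne hab
  have hxa := S.ne hab hx
  have h1 : S.L x b = S.L a b := h' b a x hab.symm (Set.mem_insert_of_mem _ hx) hxb
  have h2 : S.L b x = S.L a x :=
    h' x a b hxa (Set.mem_insert_of_mem _ (S.mem_symm hab hx)) hxb.symm
  refine S.sym_false ⟨x, b, hxb, ?_⟩
  rw [h1, h2, S.L_eq_of_mem hab (Set.mem_insert_of_mem _ hx) hxa]

theorem exists_other (a : Ω) : ∃ b : Ω, a ≠ b := by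
  haveI : Nontrivial Ω := Finite.one_lt_card_iff_nontrivial.1 (by
    rw [S.card_univ]; have := pow_pos S.prime.pos 2; omega)
  exact (exists_ne a).imp fun _ => Ne.symm

theorem orbit_stab (h : a ≠ b) : orbit (stabilizer G a) b = {a}ᶜ := by
  ext x
  constructor
  · rintro ⟨g, rfl⟩ (e : (g : G) • b = a)
    exact h (smul_left_cancel (g : G) ((g.2 : (g : G) • a = a).trans e.symm))
  · intro hx
    obtain ⟨g, hga, hgb⟩ := S.tt h (Ne.symm hx)
    exact ⟨⟨g, hga⟩, hgb⟩

theorem card_compl (a : Ω) : ({a}ᶜ : Set Ω).ncard = p ^ 2 := by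
  have := Set.ncard_add_ncard_compl ({a} : Set Ω)
  rw [Set.ncard_singleton, S.card_univ] at this
  omega

theorem card_stab (h : a ≠ b) :
    p ^ 2 * Nat.card ↥(stabilizer G a ⊓ stabilizer G b) = Nat.card ↥(stabilizer G a) := by
  rw [← S.card_compl a, ← S.orbit_stab h, orbit_mul]

theorem exists_swap (h : a ≠ b) : ∃ g : G, g • a = b ∧ g • b = a := S.tt h h.symm

/-- The blocks of the stabiliser of `a`. -/
def Blk (a : Ω) : Type _ := {s : Set Ω // ∃ x, a ≠ x ∧ S.B a x = s}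

instance (a : Ω) : Finite (S.Blk a) := Subtype.finite

variable {S} in
/-- The block of a point. -/
def blk {x : Ω} (h : a ≠ x) : S.Blk a := ⟨S.B a x, x, h, rfl⟩

theorem blk_eq {x y : Ω} (hx : a ≠ x) (hy : a ≠ y) : S.blk hx = S.blk hy ↔ y ∈ S.B a x :=
  ⟨fun e => by rw [show S.B a x = S.B a y from congrArg Subtype.val e]; exact S.mem hy,
    fun h => Subtype.ext (S.eq_of_mem hx h).symm⟩

theorem blk_surj (s : S.Blk a) : ∃ (x : Ω) (h : a ≠ x), S.blk h = s := by
  obtain ⟨s, x, hx, rfl⟩ := s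
  exact ⟨x, hx, rfl⟩

theorem smul_B {g : G} (hg : g ∈ stabilizer G a) {x : Ω} (h : a ≠ x) :
    (fun y => g • y) '' S.B a x = S.B a (g • x) := by
  ext z
  obtain ⟨w, rfl⟩ := MulAction.surjective g z
  rw [(MulAction.injective g).mem_set_image, S.smul_mem_iff_fixed hg h]

instance (a : Ω) : SMul (stabilizer G a) (S.Blk a) where
  smul g s := ⟨(fun y => (g : G) • y) '' s.1, by
    obtain ⟨s, x, hx, rfl⟩ := s
    exact ⟨(g : G) • x, fixed_ne g.2 hx, (S.smul_B g.2 hx).symm⟩⟩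

theorem smul_val (g : stabilizer G a) (s : S.Blk a) : (g • s).1 = (fun y => (g : G) • y) '' s.1 := rfl

instance (a : Ω) : MulAction (stabilizer G a) (S.Blk a) where
  one_smul s := Subtype.ext (by simp [smul_val])
  mul_smul g h s := Subtype.ext (by simp [smul_val, Set.image_image, mul_smul])

theorem smul_blk (g : stabilizer G a) {x : Ω} (h : a ≠ x) : g • S.blk h = S.blk (fixed_ne g.2 h) :=
  Subtype.ext (S.smul_B g.2 h)

instance (a : Ω) : IsPretransitive (stabilizer G a) (S.Blk a) := ⟨fun s t => by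
  obtain ⟨x, hx, rfl⟩ := S.blk_surj s
  obtain ⟨y, hy, rfl⟩ := S.blk_surj t
  obtain ⟨g, hga, hgx⟩ := S.tt hx hy
  refine ⟨⟨g, hga⟩, ?_⟩
  rw [smul_blk]
  exact Subtype.ext (congrArg (S.B a) hgx)⟩

theorem card_Blk (a : Ω) : Nat.card (S.Blk a) = p := by
  have h := ncard_eq_mul_image (fun x => S.B a x) ({a}ᶜ : Set Ω) (u := p) fun x hx => by
    have hx' : a ≠ x := Ne.symm hx
    refine Eq.trans ?_ (S.card_B hx')
    congr 1
    ext y
    constructor
    · rintro ⟨hy, e : S.B a y = S.B a x⟩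
      rw [← e]
      exact S.mem (Ne.symm hy)
    · exact fun hy => ⟨S.ne hx' hy, S.eq_of_mem hx' hy⟩
  rw [S.card_compl, pow_two] at h
  refine Eq.trans ?_ (Nat.eq_of_mul_eq_mul_right S.prime.pos h).symm
  rw [← Nat.card_coe_set_eq]
  exact Nat.card_congr (Equiv.subtypeEquivRight fun s =>
    ⟨fun ⟨x, hx, e⟩ => ⟨x, Ne.symm hx, e⟩, fun ⟨x, hx, e⟩ => ⟨x, Ne.symm hx, e⟩⟩)

/-- The kernel of the stabiliser of `a` on its blocks. -/
def K (a : Ω) : Subgroup G where
  carrier := {g | g • a = a ∧ ∀ x, a ≠ x → g • x ∈ S.B a x}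
  one_mem' := ⟨one_smul _ _, fun x hx => by rw [one_smul]; exact S.mem hx⟩
  mul_mem' := by
    rintro g h ⟨hga, hg⟩ ⟨hha, hh⟩
    refine ⟨by rw [mul_smul, hha, hga], fun x hx => ?_⟩
    rw [mul_smul, ← S.eq_of_mem hx (hh x hx)]
    exact hg _ (fixed_ne hha hx)
  inv_mem' := by
    rintro g ⟨hga, hg⟩
    refine ⟨inv_smul_eq_iff.2 hga.symm, fun x hx => ?_⟩
    have hy := fixed_ne (show g⁻¹ ∈ stabilizer G a from inv_smul_eq_iff.2 hga.symm) hx
    have := hg _ hy
    rw [smul_inv_smul] at this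
    exact S.mem_symm hy this

theorem mem_K {g : G} : g ∈ S.K a ↔ g • a = a ∧ ∀ x, a ≠ x → g • x ∈ S.B a x := Iff.rfl

theorem K_le (a : Ω) : S.K a ≤ stabilizer G a := fun _ h => h.1

theorem K_conj (g : G) (a : Ω) (k : G) : k ∈ S.K a ↔ g * k * g⁻¹ ∈ S.K (g • a) := by
  rw [mem_K, mem_K, mul_smul, mul_smul, inv_smul_smul, smul_left_cancel_iff]
  refine and_congr_right fun _ => ⟨fun h x hx => ?_, fun h x hx => ?_⟩
  · obtain ⟨y, rfl⟩ := MulAction.surjective g x
    have hy : a ≠ y := fun e => hx (by rw [e])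
    rw [mul_smul, mul_smul, inv_smul_smul, S.mem_smul_iff g hy]
    exact h y hy
  · have := h (g • x) (inv_smul_ne g hx)
    rwa [mul_smul, mul_smul, inv_smul_smul, S.mem_smul_iff g hx] at this

theorem K_normal {g k : G} (hg : g • a = a) (hk : k ∈ S.K a) : g * k * g⁻¹ ∈ S.K a := by
  have := (S.K_conj g a k).1 hk
  rwa [hg] at this

theorem mem_K_iff_blk {g : G} (hg : g ∈ stabilizer G a) :
    g ∈ S.K a ↔ ∀ s : S.Blk a, (⟨g, hg⟩ : stabilizer G a) • s = s := by
  constructor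
  · intro h s
    obtain ⟨x, hx, rfl⟩ := S.blk_surj s
    rw [smul_blk, S.blk_eq _ hx]
    exact S.mem_symm hx (h.2 x hx)
  · intro h
    refine ⟨hg, fun x hx => ?_⟩
    have := h (S.blk hx)
    rw [smul_blk, eq_comm, S.blk_eq hx] at this
    exact this

/-- A nontrivial subgroup of the block kernel normalised by the stabiliser is transitive on every block. -/
theorem orbit_eq_B {H : Subgroup G} (hHK : H ≤ S.K a) (hH : ∀ g : G, g • a = a → ∀ k ∈ H, g * k * g⁻¹ ∈ H)
    (hne : H ≠ ⊥) (h : a ≠ b) : orbit H b = S.B a b := by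
  have hsub : orbit H b ⊆ S.B a b := fun x hx => by
    obtain ⟨k, hk, rfl⟩ := mem_orbit_sub.1 hx
    exact (hHK hk).2 b h
  refine Set.eq_of_subset_of_ncard_le hsub ?_ (Set.toFinite _)
  rw [S.card_B h]
  have hconst : ∀ x, a ≠ x → (orbit H x).ncard = (orbit H b).ncard := fun x hx => by
    obtain ⟨g, hga, hgb⟩ := S.tt h hx
    rw [← hgb, orbit_conj (normal_iff hH hga)]
  have hpart := ncard_eq_mul_image (fun x => orbit H x) ({a}ᶜ : Set Ω) (u := (orbit H b).ncard) fun x hx => by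
    rw [← hconst x (Ne.symm hx)]
    congr 1
    ext y
    constructor
    · rintro ⟨-, e⟩
      have e' : orbit H y = orbit H x := e
      rw [← e']
      exact mem_orbit_self y
    · intro hy
      refine ⟨?_, orbit_eq_of_mem hy⟩
      obtain ⟨k, hk, rfl⟩ := mem_orbit_sub.1 hy
      exact (fixed_ne (S.K_le a (hHK hk)) (Ne.symm hx)).symm
  rw [S.card_compl] at hpart
  obtain ⟨i, -, hi⟩ := (Nat.dvd_prime_pow S.prime).1 (Dvd.intro_left _ hpart.symm)
  rcases Nat.eq_zero_or_pos i with rfl | hi0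
  · exfalso
    apply hne
    rw [eq_bot_iff]
    intro k hk
    rw [Subgroup.mem_bot]
    refine FaithfulSMul.eq_of_smul_eq_smul (α := Ω) fun x => ?_
    rw [one_smul]
    rcases eq_or_ne a x with rfl | hx
    · exact (hHK hk).1
    have h1 : (orbit H x).ncard = 1 := by rw [hconst x hx, hi, pow_zero]
    obtain ⟨y, hy⟩ := Set.ncard_eq_one.1 h1
    have h2 : k • x ∈ orbit H x := mem_orbit_sub.2 ⟨k, hk, rfl⟩
    have h3 := mem_orbit_self (M := H) x
    rw [hy, Set.mem_singleton_iff] at h2 h3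
    rw [h2, ← h3]
  · rw [hi]
    exact Nat.le_self_pow hi0.ne' p

theorem K_ne_bot (a : Ω) : S.K a ≠ ⊥ := by
  intro hbot
  obtain ⟨b, hb⟩ := S.exists_other a
  have hinj : Function.Injective (MulAction.toPermHom (stabilizer G a) (S.Blk a)) := by
    rw [injective_iff_map_eq_one]
    intro g hg
    have hgK : (g : G) ∈ S.K a := (S.mem_K_iff_blk g.2).2 fun s => DFunLike.congr_fun hg s
    rw [hbot, Subgroup.mem_bot] at hgK
    exact Subtype.ext hgK
  haveI := Fintype.ofFinite (S.Blk a)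
  have h1 := Subgroup.card_dvd_of_injective _ hinj
  rw [Nat.card_perm, S.card_Blk a] at h1
  exact sq_not_dvd_factorial S.prime ((dvd_trans ⟨_, (S.card_stab hb).symm⟩ h1))

theorem orbit_K (h : a ≠ b) : orbit (S.K a) b = S.B a b :=
  S.orbit_eq_B le_rfl (fun _ hg _ hk => S.K_normal hg hk) (S.K_ne_bot a) h

theorem exists_K (h : a ≠ b) (hc : c ∈ S.B a b) : ∃ k ∈ S.K a, k • b = c := by
  rw [← S.orbit_K h] at hc
  exact mem_orbit_sub.1 hc

theorem card_K (h : a ≠ b) : p * Nat.card ↥(S.K a ⊓ stabilizer G b) = Nat.card ↥(S.K a) := by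
  calc p * _ = (orbit (S.K a) b).ncard * Nat.card ↥(S.K a ⊓ stabilizer G b) := by rw [S.orbit_K h, S.card_B h]
    _ = _ := orbit_mul _ _

end Sys

end CfsgLib.PGroup.DoublyPrimitive
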