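import Cfsg.Agent.Lib.PGroup.DoublyPrimitive.TwoTrans
import Cfsg.Agent.Lib.PGroup.DoublyPrimitive.AffineCase

/-!
# 2-transitive groups of degree `p ^ 2 + 1` are doubly primitive, the group of order 20 apart
-/

set_option autoImplicit false
set_option linter.unusedSectionVars false
set_option linter.style.haveILetI false

namespace CfsgLib.PGroup.DoublyPrimitive

open MulAction

variable {G Ω : Type*} [Group G] [Finite G] [Finite Ω] [MulAction G Ω] [FaithfulSMul G Ω] {p : ℕ}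

namespace Sys

variable (S : Sys G Ω p)
include S

theorem pretrans_block {a b : Ω} (h : a ≠ b) : IsPretransitive (S.K a) (S.blockSet h) := ⟨fun x y => by
  obtain ⟨k, hk, hkx⟩ := S.exists_K (S.ne h x.2).symm (c := (y : Ω)) (by rw [S.eq_of_mem h x.2]; exact y.2)
  exact ⟨⟨k, hk⟩, Subtype.ext hkx⟩⟩

theorem twoT_or_aff : S.TwoT ∨ S.Aff := by
  by_cases hex : ∃ a b, ∃ h : a ≠ b, ∀ x y x' y' : S.blockSet (a := a) (b := b) h, x ≠ y → x' ≠ y' →
      ∃ k : S.K a, k • x = x' ∧ k • y = y'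
  · left
    obtain ⟨a, b, h, htt⟩ := hex
    intro c d x y x' y' hcd hx hy hx' hy' hxy hxy'
    obtain ⟨g, rfl, rfl⟩ := S.tt h hcd
    obtain ⟨x, rfl⟩ := MulAction.surjective g x
    obtain ⟨y, rfl⟩ := MulAction.surjective g y
    obtain ⟨x', rfl⟩ := MulAction.surjective g x'
    obtain ⟨y', rfl⟩ := MulAction.surjective g y'
    have hm : ∀ z, g • z ∈ S.B (g • a) (g • b) → z ∈ S.B a b := fun z hz => (S.mem_smul_iff g h).1 hz
    obtain ⟨k, hk1, hk2⟩ := htt ⟨x, hm x hx⟩ ⟨y, hm y hy⟩ ⟨x', hm x' hx'⟩ ⟨y', hm y' hy'⟩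
      (fun e => hxy (congrArg (fun z => g • z) (congrArg Subtype.val e)))
      (fun e => hxy' (congrArg (fun z => g • z) (congrArg Subtype.val e)))
    refine ⟨g * k * g⁻¹, (S.K_conj g a k).1 k.2, ?_, ?_⟩
    · rw [mul_smul, mul_smul, inv_smul_smul, show (k : G) • x = x' from congrArg Subtype.val hk1]
    · rw [mul_smul, mul_smul, inv_smul_smul, show (k : G) • y = y' from congrArg Subtype.val hk2]
  · right
    intro a b h u hu v hv hup hvp x hx
    haveI := S.pretrans_block h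
    rcases two_trans_or_affine (H := S.K a) S.prime (S.card_blockSet h) with htt | haff
    · exact absurd ⟨a, b, h, htt⟩ hex
    · exact congrArg Subtype.val (haff.comm ⟨u, hu⟩ ⟨v, hv⟩
        (fun z => Subtype.ext (hup z.1 z.2)) (fun z => Subtype.ext (hvp z.1 z.2)) ⟨x, hx⟩)

theorem false_of_odd (hp3 : 3 ≤ p) : False := by
  rcases S.twoT_or_aff with h | h
  · exact S.two_trans_false h hp3
  · exact S.affine_false h hp3

end Sys

theorem card_twenty (S : Sys G Ω 2) : Nat.card G = 20 := by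
  classical
  obtain ⟨a⟩ : Nonempty Ω := Nat.card_pos_iff.1 (by rw [S.card_univ]; omega) |>.1
  obtain ⟨b, h⟩ := S.exists_other a
  haveI : IsPretransitive G Ω := ⟨fun x y => by
    rcases eq_or_ne x y with rfl | hxy
    · exact ⟨1, one_smul _ _⟩
    · obtain ⟨g, hg, -⟩ := S.tt hxy hxy.symm
      exact ⟨g, hg⟩⟩
  have hG : Nat.card G = 5 * Nat.card (stabilizer G a) := by
    rw [← (stabilizer G a).card_mul_index, index_stabilizer_of_transitive, S.card_univ, mul_comm]; norm_num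
  obtain ⟨z, hz, hzB⟩ : ∃ z, a ≠ z ∧ z ∉ S.B a b := by
    obtain ⟨z, hz, hzB⟩ := Set.exists_mem_notMem_of_ncard_lt_ncard (s := S.B a b) (t := ({a}ᶜ : Set Ω))
      (by rw [S.card_B h, S.card_compl]; norm_num)
    exact ⟨z, Ne.symm hz, hzB⟩
  have hrest : ({a}ᶜ : Set Ω) \ S.B a b = S.B a z := by
    symm
    refine Set.eq_of_subset_of_ncard_le (fun x hx => ⟨S.ne hz hx, fun hx' => hzB ?_⟩) ?_ (Set.toFinite _)
    · rw [← S.eq_of_mem h hx', S.eq_of_mem hz hx]
      exact S.mem hz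
    · have hs : S.B a b ⊆ ({a}ᶜ : Set Ω) := fun x hx => S.ne h hx
      rw [Set.ncard_sdiff hs (Set.toFinite _), S.card_compl, S.card_B h, S.card_B hz]
      norm_num
  have hfix : ∀ g : G, ∀ x, a ≠ x → g • a = a → g • x = x → ∀ y ∈ S.B a x, g • y = y := by
    intro g x hx ha hgx y hy
    by_contra hne
    have hyx : y ≠ x := fun e => hne (e ▸ hgx)
    have hmem : g • y ∈ S.B a x := by
      have := (S.smul_mem_iff_fixed ha hx (c := y)).2 hy
      rwa [hgx] at this
    have h3 : ({x, y, g • y} : Set Ω) ⊆ S.B a x :=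
      Set.insert_subset (S.mem hx) (Set.insert_subset hy (Set.singleton_subset_iff.2 hmem))
    have h4 := Set.ncard_le_ncard h3 (Set.toFinite _)
    rw [S.card_B hx, Set.ncard_insert_of_notMem (by
      simp only [Set.mem_insert_iff, Set.mem_singleton_iff, not_or]
      exact ⟨hyx.symm, fun e => hyx (smul_left_cancel g (hgx.trans e).symm)⟩) (Set.toFinite _),
      Set.ncard_pair (Ne.symm hne)] at h4
    omega
  have hst : stabilizer G a ⊓ stabilizer G b ⊓ stabilizer G z = ⊥ := by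
    refine eq_bot_iff.2 fun g hg => Subgroup.mem_bot.2 (FaithfulSMul.eq_of_smul_eq_smul (α := Ω) fun x => ?_)
    rw [one_smul]
    rcases eq_or_ne a x with rfl | hx
    · exact hg.1.1
    · by_cases hxB : x ∈ S.B a b
      · exact hfix g b h hg.1.1 hg.1.2 x hxB
      · have : x ∈ ({a}ᶜ : Set Ω) \ S.B a b := ⟨Ne.symm hx, hxB⟩
        rw [hrest] at this
        exact hfix g z hz hg.1.1 hg.2 x this
  have h1 := orbit_mul (stabilizer G a ⊓ stabilizer G b) z
  rw [hst, Subgroup.card_bot, mul_one] at h1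
  have hsub : orbit (stabilizer G a ⊓ stabilizer G b : Subgroup G) z ⊆ S.B a z := by
    intro y hy
    obtain ⟨g, hg, rfl⟩ := mem_orbit_sub.1 hy
    rw [← hrest]
    exact ⟨(Sys.fixed_ne hg.1 hz).symm, fun hy' => hzB ((S.stab_block hg h).1 hy')⟩
  have h2 := Set.ncard_le_ncard hsub (Set.toFinite _)
  rw [h1, S.card_B hz] at h2
  have h3 := S.card_stab h
  have hpos : 0 < Nat.card ↥(stabilizer G a ⊓ stabilizer G b) := Nat.card_pos
  by_contra hne
  have h8 : Nat.card (stabilizer G a) = 8 := by omega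
  -- a normal subgroup of order five
  haveI := Fact.mk (show Nat.Prime 5 by norm_num)
  obtain ⟨P⟩ : Nonempty (Sylow 5 G) := inferInstance
  have hG40 : Nat.card G = 40 := by omega
  have hP : Nat.card (P : Subgroup G) = 5 := by
    rw [P.card_eq_multiplicity, hG40]
    have h5 : Nat.factorization 40 5 = 1 := by
      rw [show (40 : ℕ) = 5 * 8 from rfl, Nat.factorization_mul (by norm_num) (by norm_num), Finsupp.add_apply,
        Nat.Prime.factorization_self (by norm_num), Nat.factorization_eq_zero_of_not_dvd (by norm_num)]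
    rw [h5, pow_one]
  have hidx : (P : Subgroup G).index = 8 := by
    have := (P : Subgroup G).card_mul_index
    rw [hP, hG40] at this
    omega
  have hone : Nat.card (Sylow 5 G) = 1 := by
    have hd := P.card_dvd_index
    rw [hidx] at hd
    have hm : Nat.card (Sylow 5 G) % 5 = 1 % 5 := card_sylow_modEq_one 5 G
    have hle := Nat.le_of_dvd (by norm_num) hd
    have : Nat.card (Sylow 5 G) = 1 ∨ Nat.card (Sylow 5 G) = 6 := by omega
    rcases this with h' | h'
    · exact h'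
    · rw [h'] at hd; norm_num at hd
  haveI : Subsingleton (Sylow 5 G) := (Nat.card_eq_one_iff_unique.1 hone).1
  haveI hPn : (P : Subgroup G).Normal := P.normal_of_subsingleton
  obtain ⟨c, hc⟩ : ∃ c : (P : Subgroup G), c ≠ 1 := by
    by_contra hcon
    push Not at hcon
    haveI : Subsingleton (P : Subgroup G) := ⟨fun x y => (hcon x).trans (hcon y).symm⟩
    rw [Nat.card_of_subsingleton (1 : (P : Subgroup G))] at hP
    omega
  have hcord : orderOf (c : G) = 5 := by
    rw [Subgroup.orderOf_coe]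
    exact orderOf_eq_prime (orderOf_dvd_iff_pow_eq_one.1 ((orderOf_dvd_natCard c).trans hP.dvd)) hc
  have hper : ∀ n : ℕ, (c : G) ^ n • a = a → 5 ∣ n := by
    intro n hn
    by_contra hnd
    have hord : orderOf ((c : G) ^ n) = 5 := by
      rw [orderOf_pow, hcord, Nat.Coprime.gcd_eq_one ((Nat.prime_five.coprime_iff_not_dvd).2 hnd)]
    have h5 := Subgroup.orderOf_mk ((c : G) ^ n) (show (c : G) ^ n ∈ stabilizer G a from hn) ▸
      orderOf_dvd_natCard (⟨_, hn⟩ : stabilizer G a)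
    rw [hord, h8] at h5
    norm_num at h5
  have hall : ∀ x : Ω, ∃ n : ℕ, (c : G) ^ n • a = x := by
    haveI := Fintype.ofFinite Ω
    have hinj : Function.Injective fun i : Fin 5 => (c : G) ^ (i : ℕ) • a := by
      intro i j e
      have e' : (c : G) ^ (i : ℕ) • a = (c : G) ^ (j : ℕ) • a := e
      apply Fin.ext
      rcases le_total (i : ℕ) (j : ℕ) with hij | hij
      · have h6 := hper ((j : ℕ) - i) (by
          apply MulAction.injective ((c : G) ^ (i : ℕ))
          show (c : G) ^ (i : ℕ) • (c : G) ^ ((j : ℕ) - i) • a = (c : G) ^ (i : ℕ) • a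
          rw [← mul_smul, ← pow_add, Nat.add_sub_cancel' hij, e'])
        have := j.isLt
        omega
      · have h6 := hper ((i : ℕ) - j) (by
          apply MulAction.injective ((c : G) ^ (j : ℕ))
          show (c : G) ^ (j : ℕ) • (c : G) ^ ((i : ℕ) - j) • a = (c : G) ^ (j : ℕ) • a
          rw [← mul_smul, ← pow_add, Nat.add_sub_cancel' hij, e'])
        have := i.isLt
        omega
    intro x
    obtain ⟨i, hi⟩ := ((Fintype.bijective_iff_injective_and_card _).2 ⟨hinj, by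
      rw [Fintype.card_fin, ← Nat.card_eq_fintype_card, S.card_univ]; norm_num⟩).2 x
    exact ⟨i, hi⟩
  obtain ⟨f, hf⟩ : ∃ f : stabilizer G a → {q : (P : Subgroup G) // q ≠ 1},
      ∀ g, ((f g).1 : G) = (g : G) * c * (g : G)⁻¹ :=
    ⟨fun g => ⟨⟨_, hPn.conj_mem c c.2 g⟩, fun e => hc (Subtype.ext (conj_eq_one_iff.1 (congrArg Subtype.val e)))⟩,
      fun _ => rfl⟩
  have hinj : Function.Injective f := by
    intro g g' e
    have e1 : (g : G) * c * (g : G)⁻¹ = (g' : G) * c * (g' : G)⁻¹ := by rw [← hf, ← hf, e]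
    have hcomm : Commute ((g' : G)⁻¹ * g) (c : G) := by
      show (g' : G)⁻¹ * g * c = c * ((g' : G)⁻¹ * g)
      calc (g' : G)⁻¹ * g * c = (g' : G)⁻¹ * ((g : G) * c * (g : G)⁻¹) * g := by group
        _ = (c : G) * ((g' : G)⁻¹ * g) := by rw [e1]; group
    have hfix' : ((g' : G)⁻¹ * g) • a = a := ((g'⁻¹ * g : stabilizer G a)).2
    refine Subtype.ext (inv_mul_eq_one.1 (FaithfulSMul.eq_of_smul_eq_smul (α := Ω) fun x => ?_)).symm
    obtain ⟨n, rfl⟩ := hall x
    rw [one_smul, ← mul_smul, (hcomm.pow_right n).eq, mul_smul, hfix']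
  have h9 := Nat.card_le_card_of_injective f hinj
  haveI := Fintype.ofFinite (P : Subgroup G)
  rw [h8, Nat.card_eq_fintype_card, Fintype.card_subtype_compl, Fintype.card_subtype_eq,
    ← Nat.card_eq_fintype_card, hP] at h9
  omega

theorem exists_sys {G Ω : Type*} [Group G] [Finite G] [Finite Ω] [MulAction G Ω] {p : ℕ} (hp : p.Prime)
    (hn : Nat.card Ω = p ^ 2 + 1) (h2 : IsMultiplyPretransitive G Ω 2) (a : Ω)
    (h : ¬ IsPreprimitive (stabilizer G a) (SubMulAction.ofStabilizer G a)) : Nonempty (Sys G Ω p) := by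
  have tt : ∀ {a b c d : Ω}, a ≠ b → c ≠ d → ∃ g : G, g • a = c ∧ g • b = d :=
    fun hab hcd => is_two_pretransitive_iff.1 h2 hab hcd
  haveI : IsPretransitive (stabilizer G a) (SubMulAction.ofStabilizer G a) := ⟨fun x y => by
    obtain ⟨g, hga, hg⟩ := tt (Ne.symm x.2 : a ≠ x.1) (Ne.symm y.2 : a ≠ y.1)
    exact ⟨⟨g, hga⟩, Subtype.ext hg⟩⟩
  obtain ⟨D, hD, hDt⟩ : ∃ D : Set (SubMulAction.ofStabilizer G a),
      IsBlock (stabilizer G a) D ∧ ¬ IsTrivialBlock D := by
    by_contra hcon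
    push Not at hcon
    exact h { isTrivialBlock_of_isBlock := fun hB => hcon _ hB }
  rw [IsTrivialBlock, not_or] at hDt
  have hne : D.Nonempty := by
    by_contra hcon
    rw [Set.not_nonempty_iff_eq_empty] at hcon
    exact hDt.1 (hcon ▸ Set.subsingleton_empty)
  obtain ⟨b₀, hb₀⟩ := hne
  have hcard : Nat.card (SubMulAction.ofStabilizer G a) = p ^ 2 := by
    have h1 : Nat.card (SubMulAction.ofStabilizer G a) = ({a}ᶜ : Set Ω).ncard := by
      rw [← Nat.card_coe_set_eq]; rfl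
    have h2 := Set.ncard_add_ncard_compl ({a} : Set Ω)
    rw [Set.ncard_singleton, hn] at h2
    omega
  have hDp : D.ncard = p := by
    have hd := hD.ncard_dvd_card ⟨b₀, hb₀⟩
    rw [hcard] at hd
    obtain ⟨i, hi, he⟩ := (Nat.dvd_prime_pow hp).1 hd
    have h1 : 1 < D.ncard := (Set.one_lt_ncard_iff_nontrivial_and_finite).2
      ⟨Set.not_subsingleton_iff.1 hDt.1, Set.toFinite _⟩
    have h2 : D.ncard ≠ p ^ 2 := fun e => hDt.2 (by
      rw [Set.eq_univ_iff_ncard, e, hcard])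
    interval_cases i
    · rw [pow_zero] at he; omega
    · rw [he, pow_one]
    · exact absurd he h2
  obtain ⟨B₀, hB₀⟩ : ∃ B₀ : Set Ω, B₀ = Subtype.val '' D := ⟨_, rfl⟩
  obtain ⟨b, hb⟩ : ∃ b : Ω, b = b₀.1 := ⟨_, rfl⟩
  have hab : a ≠ b := fun e => b₀.2 ((hb ▸ e.symm : (b₀ : Ω) = a))
  have hbB : b ∈ B₀ := hB₀ ▸ hb ▸ ⟨b₀, hb₀, rfl⟩
  have hblock : ∀ g : G, g • a = a → ∀ y ∈ B₀, g • y ∈ B₀ → ∀ z ∈ B₀, g • z ∈ B₀ := by
    intro g hg y hy hgy z hz
    rw [hB₀] at hy hgy hz ⊢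
    obtain ⟨y, hy, rfl⟩ := hy
    obtain ⟨w, hw, hwy⟩ := hgy
    obtain ⟨z, hz, rfl⟩ := hz
    have hw' : (⟨g, hg⟩ : stabilizer G a) • y = w := Subtype.ext hwy.symm
    rcases isBlock_iff_smul_eq_or_disjoint.1 hD ⟨g, hg⟩ with e | e
    · refine ⟨(⟨g, hg⟩ : stabilizer G a) • z, ?_, rfl⟩
      rw [← e]
      exact Set.smul_mem_smul_set hz
    · exact absurd hw (Set.disjoint_left.1 e (hw' ▸ Set.smul_mem_smul_set hy))
  obtain ⟨B, hB⟩ : ∃ B : Ω → Ω → Set Ω,
      B = fun c d => {x | ∃ g : G, g • a = c ∧ g • b = d ∧ g⁻¹ • x ∈ B₀} := ⟨_, rfl⟩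
  have hwd : ∀ (g : G) (x : Ω), x ∈ B (g • a) (g • b) ↔ g⁻¹ • x ∈ B₀ := by
    intro g x
    rw [hB]
    refine ⟨?_, fun hx => ⟨g, rfl, rfl, hx⟩⟩
    rintro ⟨u, hua, hub, hux⟩
    have := hblock (g⁻¹ * u) (by rw [mul_smul, hua, inv_smul_smul]) b hbB
      (by rw [mul_smul, hub, inv_smul_smul]; exact hbB) _ hux
    rwa [mul_smul, smul_inv_smul] at this
  have hmemne : ∀ y ∈ B₀, y ≠ a := by
    intro y hy
    rw [hB₀] at hy
    obtain ⟨y, -, rfl⟩ := hy
    exact y.2
  refine ⟨⟨B, hp, hn, tt, ?_, ?_, ?_, ?_, ?_⟩⟩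
  · intro g c d x hcd hx
    obtain ⟨u, rfl, rfl⟩ := tt hab hcd
    rw [← mul_smul g u a, ← mul_smul g u b, hwd]
    rw [hwd] at hx
    rwa [mul_inv_rev, mul_smul, inv_smul_smul]
  · intro c d hcd
    obtain ⟨u, rfl, rfl⟩ := tt hab hcd
    rw [hwd, inv_smul_smul]
    exact hbB
  · intro c d x hcd hx
    obtain ⟨u, rfl, rfl⟩ := tt hab hcd
    rw [hwd] at hx
    exact fun e => hmemne _ hx (by rw [e, inv_smul_smul])
  · intro c d x hcd hx
    obtain ⟨u, rfl, rfl⟩ := tt hab hcd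
    rw [hwd] at hx
    obtain ⟨k, hka, hkb⟩ := tt hab (hmemne _ hx).symm
    have e1 : (u * k) • a = u • a := by rw [mul_smul, hka]
    have e2 : (u * k) • b = x := by rw [mul_smul, hkb, smul_inv_smul]
    ext y
    rw [← e2, ← e1, hwd (u * k), e1, hwd u, mul_inv_rev, mul_smul]
    constructor
    · intro hy
      have := hblock k hka b hbB (by rw [hkb]; exact hx) _ hy
      rwa [smul_inv_smul] at this
    · intro hy
      exact hblock k⁻¹ (inv_smul_eq_iff.2 hka.symm) _ hx (by rw [← hkb, inv_smul_smul]; exact hbB) _ hy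
  · intro c d hcd
    obtain ⟨u, rfl, rfl⟩ := tt hab hcd
    have e : B (u • a) (u • b) = (fun y => u • y) '' B₀ := by
      ext x
      rw [hwd]
      exact ⟨fun hx => ⟨_, hx, smul_inv_smul u x⟩, by rintro ⟨y, hy, rfl⟩; rwa [inv_smul_smul]⟩
    rw [e, Set.ncard_image_of_injective _ (MulAction.injective u), hB₀,
      Set.ncard_image_of_injective _ Subtype.val_injective, hDp]

/-- **Main theorem.** -/
theorem preprimitive_or_twenty (hp : p.Prime) (hn : Nat.card Ω = p ^ 2 + 1)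
    (h2 : IsMultiplyPretransitive G Ω 2) (a : Ω) :
    IsPreprimitive (stabilizer G a) (SubMulAction.ofStabilizer G a) ∨ (p = 2 ∧ Nat.card G = 20) := by
  refine (em _).imp_right fun h => ?_
  obtain ⟨S⟩ := exists_sys hp hn h2 a h
  rcases Nat.lt_or_ge p 3 with h3 | h3
  · obtain rfl : p = 2 := by have := hp.two_le; omega
    exact ⟨rfl, card_twenty S⟩
  · exact (S.false_of_odd h3).elim

end CfsgLib.PGroup.DoublyPrimitive
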