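import Cfsg.Agent.Lib.PGroup.DoublyPrimitive.Design

/-!
# Block kernels acting doubly transitively: orbits and incidences

With `K a` doubly transitive on its blocks, the stabiliser of a point in `K a` has at most two orbits on every
block, and each orbit gives an incidence relation between two blocks with constant intersection numbers.
-/

set_option autoImplicit false
set_option linter.unusedSectionVars false
set_option linter.style.haveILetI false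

namespace CfsgLib.PGroup.DoublyPrimitive

open MulAction

variable {G Ω : Type*} [Group G] [Finite G] [Finite Ω] [MulAction G Ω] [FaithfulSMul G Ω] {p : ℕ}

namespace Sys

variable (S : Sys G Ω p) {a b c : Ω}
include S

/-- The stabiliser of `b` in the block kernel of `a`. -/
def Kb (a b : Ω) : Subgroup G := S.K a ⊓ stabilizer G b

theorem Kb_le (a b : Ω) : S.Kb a b ≤ stabilizer G a ⊓ stabilizer G b := inf_le_inf_right _ (S.K_le a)

theorem Kb_conj (g : G) (a b : Ω) (k : G) : k ∈ S.Kb a b ↔ g * k * g⁻¹ ∈ S.Kb (g • a) (g • b) := by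
  refine Iff.trans (and_congr (S.K_conj g a k) ?_) Iff.rfl
  show k • b = b ↔ (g * k * g⁻¹) • (g • b) = g • b
  rw [mul_smul, mul_smul, inv_smul_smul, smul_left_cancel_iff]

theorem card_Kb_eq {x y : Ω} (hx : a ≠ x) (hy : a ≠ y) : Nat.card (S.Kb a x) = Nat.card (S.Kb a y) := by
  have h1 := S.card_K hx
  have h2 := S.card_K hy
  rw [← h1] at h2
  exact (Nat.eq_of_mul_eq_mul_left S.prime.pos h2).symm

theorem Kb_eq_of_le {x y : Ω} (hx : a ≠ x) (hy : a ≠ y) (h : S.Kb a x ≤ stabilizer G y) :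
    S.Kb a x = S.Kb a y :=
  Subgroup.eq_of_le_of_card_ge (le_inf inf_le_left h) (S.card_Kb_eq hy hx).le

omit S

/-- `K a` is doubly transitive on every block. -/
def TwoT : Prop := ∀ a b x y x' y' : Ω, a ≠ b → x ∈ S.B a b → y ∈ S.B a b → x' ∈ S.B a b → y' ∈ S.B a b →
  x ≠ y → x' ≠ y' → ∃ k ∈ S.K a, k • x = x' ∧ k • y = y'

include S

theorem orbit_Kb_block (h2 : S.TwoT) (h : a ≠ b) {x y : Ω} (hx : x ∈ S.B a b) (hy : y ∈ S.B a b) (hxy : x ≠ y) :
    orbit (S.Kb a x) y = S.B a b \ {x} := by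
  ext z
  rw [mem_orbit_sub]
  constructor
  · rintro ⟨k, ⟨hk, hkx⟩, rfl⟩
    refine ⟨?_, fun e => hxy (smul_left_cancel k ((show k • x = x from hkx).trans (Set.mem_singleton_iff.1 e).symm))⟩
    rw [← S.eq_of_mem h hy]
    exact hk.2 y (S.ne h hy).symm
  · rintro ⟨hz, hzx⟩
    obtain ⟨k, hk, hkx, hky⟩ := h2 a b x y x z h hx hy hx hz hxy (Ne.symm hzx)
    exact ⟨k, ⟨hk, hkx⟩, hky⟩

theorem sum_fix_mul [Fintype Ω] [DecidableEq Ω] [Fintype (S.K a)] (σ τ : Finset Ω) :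
    ∑ k : S.K a, (σ.filter fun x => (k : G) • x = x).card * (τ.filter fun y => (k : G) • y = y).card =
      ∑ x ∈ σ, ∑ y ∈ τ, Nat.card ↥(S.Kb a x ⊓ stabilizer G y) := by
  classical
  simp only [Finset.card_filter, Finset.sum_mul_sum]
  rw [Finset.sum_comm]
  refine Finset.sum_congr rfl fun x _ => ?_
  rw [Finset.sum_comm]
  refine Finset.sum_congr rfl fun y _ => ?_
  simp only [mul_ite, mul_one, mul_zero, ← ite_and]
  rw [Finset.sum_boole, Nat.cast_id, ← Fintype.card_subtype, ← Nat.card_eq_fintype_card]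
  exact Nat.card_congr ⟨fun k => ⟨k.1.1, ⟨k.1.2, k.2.2⟩, k.2.1⟩, fun g => ⟨⟨g.1, g.2.1.1⟩, g.2.2, g.2.1.2⟩,
    fun _ => rfl, fun _ => rfl⟩

omit S [FaithfulSMul G Ω] in
theorem orbit_sum [Fintype Ω] [DecidableEq Ω] (H : Subgroup G) (x : Ω) [Fintype (orbit H x)] :
    ∑ y ∈ (orbit H x).toFinset, Nat.card ↥(H ⊓ stabilizer G y) = Nat.card H := by
  rw [Finset.sum_const_nat (m := Nat.card ↥(H ⊓ stabilizer G x)), ← Set.ncard_eq_toFinset_card', orbit_mul]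
  intro y hy
  rw [Set.mem_toFinset] at hy
  have h1 := orbit_mul H y
  rw [orbit_eq_of_mem hy, ← orbit_mul H x] at h1
  exact Nat.eq_of_mul_eq_mul_left (one_le_orbit H x) h1

/-- A point stabiliser of `K a` has at most two orbits on any block. -/
theorem three_orbits_false (h2 : S.TwoT) (h : a ≠ b) {t z₁ z₂ z₃ : Ω} (ht : a ≠ t) (h₁ : z₁ ∈ S.B a t)
    (h₂ : z₂ ∈ S.B a t) (h₃ : z₃ ∈ S.B a t) (h₁₂ : z₂ ∉ orbit (S.Kb a b) z₁)
    (h₁₃ : z₃ ∉ orbit (S.Kb a b) z₁) (h₂₃ : z₃ ∉ orbit (S.Kb a b) z₂) : False := by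
  classical
  haveI := Fintype.ofFinite Ω
  haveI := Fintype.ofFinite (S.K a)
  obtain ⟨κ, hκ⟩ : ∃ κ, κ = Nat.card (S.Kb a b) := ⟨_, rfl⟩
  have hK : p * κ = Nat.card (S.K a) := hκ ▸ S.card_K h
  have hκpos : 0 < κ := hκ ▸ Nat.card_pos
  have hcardB : ∀ {u : Ω}, a ≠ u → (S.B a u).toFinset.card = p := fun hu => by
    rw [← Set.ncard_eq_toFinset_card', S.card_B hu]
  have hself : ∀ u, a ≠ u →
      ∑ x ∈ (S.B a u).toFinset, ∑ y ∈ (S.B a u).toFinset, Nat.card ↥(S.Kb a x ⊓ stabilizer G y) = p * (2 * κ) := by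
    intro u hu
    rw [Finset.sum_const_nat (m := 2 * κ), hcardB hu]
    intro x hx
    rw [Set.mem_toFinset] at hx
    have hxa : a ≠ x := (S.ne hu hx).symm
    rw [← Finset.add_sum_erase _ _ (Set.mem_toFinset.2 hx)]
    obtain ⟨y₀, hy₀, hne⟩ := S.exists_mem_ne hxa
    rw [S.eq_of_mem hu hx] at hy₀
    have he : (S.B a u).toFinset.erase x = (orbit (S.Kb a x) y₀).toFinset := by
      ext z
      rw [Finset.mem_erase, Set.mem_toFinset, Set.mem_toFinset, S.orbit_Kb_block h2 hu hx hy₀ hne.symm]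
      exact ⟨fun ⟨h1, h2⟩ => ⟨h2, h1⟩, fun ⟨h1, h2⟩ => ⟨h2, h1⟩⟩
    have hself' : S.Kb a x ⊓ stabilizer G x = S.Kb a x := inf_eq_left.2 inf_le_right
    rw [he, orbit_sum, hself', hκ, S.card_Kb_eq h hxa, two_mul]
  have hcross : p * (3 * κ) ≤
      ∑ x ∈ (S.B a b).toFinset, ∑ y ∈ (S.B a t).toFinset, Nat.card ↥(S.Kb a x ⊓ stabilizer G y) := by
    calc p * (3 * κ) = ∑ _x ∈ (S.B a b).toFinset, 3 * κ := by rw [Finset.sum_const, hcardB h, smul_eq_mul]
      _ ≤ _ := ?_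
    refine Finset.sum_le_sum fun x hx => ?_
    rw [Set.mem_toFinset] at hx
    obtain ⟨k, hk, rfl⟩ := S.exists_K h hx
    have hin : ∀ z ∈ S.B a t, (orbit (S.Kb a (k • b)) (k • z)).toFinset ⊆ (S.B a t).toFinset := by
      intro z hz w hw
      rw [Set.mem_toFinset] at hw ⊢
      obtain ⟨u, hu, rfl⟩ := mem_orbit_sub.1 hw
      rw [← mul_smul, ← S.eq_of_mem ht hz]
      exact (mul_mem hu.1 hk).2 z (S.ne ht hz).symm
    have hdisj : ∀ z z' : Ω, z' ∉ orbit (S.Kb a b) z →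
        Disjoint (orbit (S.Kb a (k • b)) (k • z)).toFinset (orbit (S.Kb a (k • b)) (k • z')).toFinset := by
      intro z z' hzz
      rw [Finset.disjoint_left]
      intro w hw hw'
      rw [Set.mem_toFinset] at hw hw'
      apply hzz
      have hm : k • z' ∈ orbit (S.Kb a (k • b)) (k • z) := by
        rw [← orbit_eq_of_mem hw, orbit_eq_of_mem hw']
        exact mem_orbit_self _
      obtain ⟨u, hu, he⟩ := mem_orbit_sub.1 hm
      refine mem_orbit_sub.2 ⟨k⁻¹ * u * k, ?_, by rw [mul_smul, mul_smul, he, inv_smul_smul]⟩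
      have := (S.Kb_conj k⁻¹ a (k • b) u).1 hu
      rwa [inv_smul_smul, inv_inv, show k⁻¹ • a = a from inv_smul_eq_iff.2 hk.1.symm] at this
    calc 3 * κ = ∑ y ∈ (orbit (S.Kb a (k • b)) (k • z₁)).toFinset ∪ (orbit (S.Kb a (k • b)) (k • z₂)).toFinset ∪
          (orbit (S.Kb a (k • b)) (k • z₃)).toFinset, Nat.card ↥(S.Kb a (k • b) ⊓ stabilizer G y) := by
          rw [Finset.sum_union (Finset.disjoint_union_left.2 ⟨hdisj _ _ h₁₃, hdisj _ _ h₂₃⟩),
            Finset.sum_union (hdisj _ _ h₁₂), orbit_sum, orbit_sum, orbit_sum,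
            ← S.card_Kb_eq h (fixed_ne hk.1 h), ← hκ]
          ring
      _ ≤ _ := Finset.sum_le_sum_of_subset
          (Finset.union_subset (Finset.union_subset (hin _ h₁) (hin _ h₂)) (hin _ h₃))
  rw [← S.sum_fix_mul] at hcross
  have hb := hself b h
  have ht' := hself t ht
  rw [← S.sum_fix_mul] at hb ht'
  have hle : 2 * ∑ k : S.K a, ((S.B a b).toFinset.filter fun x => (k : G) • x = x).card *
      ((S.B a t).toFinset.filter fun x => (k : G) • x = x).card ≤ p * (2 * κ) + p * (2 * κ) := by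
    nth_rewrite 1 [← hb]
    nth_rewrite 1 [← ht']
    rw [Finset.mul_sum, ← Finset.sum_add_distrib]
    refine Finset.sum_le_sum fun k _ => ?_
    rw [← mul_assoc, ← pow_two, ← pow_two]
    exact two_mul_le_add_sq _ _
  have := Nat.mul_pos S.prime.pos hκpos
  nlinarith

omit S

/-- The `K a`-orbit of the pair `(b, z₀)`. -/
def Rel (a b z₀ y z : Ω) : Prop := ∃ k ∈ S.K a, k • b = y ∧ k • z₀ = z

include S

theorem rel_swap (a b z₀ y z : Ω) : S.Rel a b z₀ y z ↔ S.Rel a z₀ b z y :=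
  ⟨fun ⟨k, h, h1, h2⟩ => ⟨k, h, h2, h1⟩, fun ⟨k, h, h1, h2⟩ => ⟨k, h, h2, h1⟩⟩

theorem rel_smul {k : G} (hk : k ∈ S.K a) (b z₀ y z : Ω) :
    S.Rel a b z₀ (k • y) (k • z) ↔ S.Rel a b z₀ y z := by
  constructor
  · rintro ⟨u, hu, h1, h2⟩
    exact ⟨k⁻¹ * u, mul_mem (inv_mem hk) hu, by rw [mul_smul, h1, inv_smul_smul],
      by rw [mul_smul, h2, inv_smul_smul]⟩
  · rintro ⟨u, hu, rfl, rfl⟩
    exact ⟨k * u, mul_mem hk hu, mul_smul _ _ _, mul_smul _ _ _⟩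

theorem rel_row (a b z₀ : Ω) : {z | S.Rel a b z₀ b z} = orbit (S.Kb a b) z₀ := by
  ext z
  rw [mem_orbit_sub]
  exact ⟨fun ⟨k, h, h1, h2⟩ => ⟨k, ⟨h, h1⟩, h2⟩, fun ⟨k, ⟨h, h1⟩, h2⟩ => ⟨k, h, h1, h2⟩⟩

theorem row_ncard (h : a ≠ b) (z₀ : Ω) {y : Ω} (hy : y ∈ S.B a b) :
    {z | S.Rel a b z₀ y z}.ncard = (orbit (S.Kb a b) z₀).ncard := by
  obtain ⟨k, hk, rfl⟩ := S.exists_K h hy
  have e : {z | S.Rel a b z₀ (k • b) z} = (fun w => k • w) '' {z | S.Rel a b z₀ b z} := by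
    ext z
    obtain ⟨w, rfl⟩ := MulAction.surjective k z
    rw [(MulAction.injective k).mem_set_image]
    exact S.rel_smul hk b z₀ b w
  rw [e, Set.ncard_image_of_injective _ (MulAction.injective k), S.rel_row]

theorem row_subset (b : Ω) {z₀ : Ω} (hz : a ≠ z₀) (y : Ω) : {z | S.Rel a b z₀ y z} ⊆ S.B a z₀ :=
  fun _ ⟨_, hk, _, e⟩ => e ▸ hk.2 z₀ hz

theorem orbit_ncard_swap (h : a ≠ b) {z₀ : Ω} (hz : a ≠ z₀) :
    (orbit (S.Kb a z₀) b).ncard = (orbit (S.Kb a b) z₀).ncard := by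
  have h1 := orbit_mul (S.Kb a b) z₀
  have h2 := orbit_mul (S.Kb a z₀) b
  have e : S.Kb a z₀ ⊓ stabilizer G b = S.Kb a b ⊓ stabilizer G z₀ := by
    rw [Kb, Kb, inf_right_comm]
  rw [e, S.card_Kb_eq hz h, ← h1] at h2
  exact Nat.eq_of_mul_eq_mul_right Nat.card_pos h2

/-- Constant intersection number of rows. -/
theorem exists_inter (h2 : S.TwoT) (h : a ≠ b) {z₀ : Ω} (hz : a ≠ z₀) :
    ∃ μ, (∀ y ∈ S.B a b, ∀ y' ∈ S.B a b, y ≠ y' →
      ({z | S.Rel a b z₀ y z} ∩ {z | S.Rel a b z₀ y' z}).ncard = μ) ∧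
      (orbit (S.Kb a b) z₀).ncard * ((orbit (S.Kb a b) z₀).ncard - 1) = (p - 1) * μ := by
  obtain ⟨x, hx, hxb⟩ := S.exists_mem_ne h
  have hconst : ∀ y ∈ S.B a b, ∀ y' ∈ S.B a b, y ≠ y' →
      ({z | S.Rel a b z₀ y z} ∩ {z | S.Rel a b z₀ y' z}).ncard =
      ({z | S.Rel a b z₀ b z} ∩ {z | S.Rel a b z₀ x z}).ncard := by
    intro y hy y' hy' hne
    obtain ⟨k, hk, rfl, rfl⟩ := h2 a b b x y y' h (S.mem h) hx hy hy' hxb.symm hne
    refine Eq.trans ?_ (Set.ncard_image_of_injective _ (MulAction.injective k))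
    congr 1
    ext z
    obtain ⟨w, rfl⟩ := MulAction.surjective k z
    rw [(MulAction.injective k).mem_set_image]
    exact and_congr (S.rel_smul hk _ _ _ _) (S.rel_smul hk _ _ _ _)
  refine ⟨_, hconst, ?_⟩
  have hb : (S.B a b \ {b}).ncard = p - 1 := by
    rw [Set.ncard_sdiff_singleton_of_mem (S.mem h), S.card_B h]
  rw [← hb]
  refine double_count (fun z y => S.Rel a b z₀ y z) (orbit (S.Kb a b) z₀) (S.B a b \ {b}) (fun z hz' => ?_)
    fun y hy => ?_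
  · obtain ⟨k, hk, rfl⟩ := mem_orbit_sub.1 hz'
    have e : {y | y ∈ S.B a b \ {b} ∧ S.Rel a b z₀ y (k • z₀)} =
        {y | S.Rel a z₀ b (k • z₀) y} \ {b} := by
      ext y
      constructor
      · exact fun ⟨⟨_, hyb⟩, hR⟩ => ⟨(S.rel_swap a b z₀ y _).1 hR, hyb⟩
      · exact fun ⟨hR, hyb⟩ => ⟨⟨S.row_subset z₀ h _ hR, hyb⟩, (S.rel_swap a b z₀ y _).2 hR⟩
    have hbm : b ∈ {y | S.Rel a z₀ b (k • z₀) y} := ⟨k, hk.1, rfl, hk.2⟩
    rw [e, Set.ncard_sdiff_singleton_of_mem hbm, S.row_ncard hz b (hk.1.2 z₀ hz), S.orbit_ncard_swap h hz]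
  · rw [← hconst b (S.mem h) y hy.1 (Ne.symm hy.2)]
    congr 1
    ext z
    rw [Set.mem_inter_iff, ← S.rel_row]
    rfl

end Sys

end CfsgLib.PGroup.DoublyPrimitive
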