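import Cfsg.Agent.Lib.PGroup.DoublyPrimitive.Count
import Cfsg.Agent.S0675

/-!
# The two possibilities for a transitive action of prime degree

Burnside: doubly transitive, or affine (elements with trivial `p`-th power commute on the set, and an element
fixing two points fixes all).
-/

set_option autoImplicit false
set_option linter.unusedSectionVars false
set_option linter.style.haveILetI false

namespace CfsgLib.PGroup.DoublyPrimitive

open MulAction
open scoped Pointwise

variable {H α : Type*} [Group H] [Finite α] [MulAction H α]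

/-- Affine behaviour of an action of prime degree. -/
structure Affine (H α : Type*) [Group H] [MulAction H α] (p : ℕ) : Prop where
  comm : ∀ h k : H, (∀ x : α, h ^ p • x = x) → (∀ x : α, k ^ p • x = x) → ∀ x : α, h • k • x = k • h • x
  fix_two : ∀ (h : H) (x y : α), x ≠ y → h • x = x → h • y = y → ∀ z : α, h • z = z

theorem two_trans_or_affine [IsPretransitive H α] {p : ℕ} (hp : p.Prime) (hc : Nat.card α = p) :
    (∀ x y x' y' : α, x ≠ y → x' ≠ y' → ∃ h : H, h • x = x' ∧ h • y = y') ∨ Affine H α p := by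
  classical
  haveI := Fintype.ofFinite α
  obtain ⟨R, hR⟩ : ∃ R, R = (MulAction.toPermHom H α).range := ⟨_, rfl⟩
  have hmem : ∀ h : H, MulAction.toPermHom H α h ∈ R := fun h => hR ▸ ⟨h, rfl⟩
  haveI : IsPretransitive R α := ⟨fun x y => by
    obtain ⟨g, hg⟩ := exists_smul_eq H x y
    exact ⟨⟨_, hmem g⟩, hg⟩⟩
  have hpc : Fintype.card α = p := by rw [← Nat.card_eq_fintype_card, hc]
  rcases Cfsg.Agent.S0675.result (hpc ▸ hp) R with hs | h2
  · right
    haveI : IsPreprimitive R α := IsPreprimitive.of_prime_card (hc ▸ hp)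
    haveI : Nontrivial α := Finite.one_lt_card_iff_nontrivial.1 (hc ▸ hp.one_lt)
    obtain ⟨A, hAn, hAne, hAab⟩ : ∃ A : Subgroup R, A.Normal ∧ A ≠ ⊥ ∧ ∀ x ∈ A, ∀ y ∈ A, x * y = y * x := by
      have hex : ∃ n, derivedSeries R n = ⊥ := (Group.isSolvable_def R).1 hs
      obtain ⟨n, hn⟩ : ∃ n, n = Nat.find hex := ⟨_, rfl⟩
      have hspec : derivedSeries R n = ⊥ := hn ▸ Nat.find_spec hex
      rcases n with _ | n
      · exfalso
        obtain ⟨x, y, hxy⟩ := exists_pair_ne α
        obtain ⟨g, hg⟩ := exists_smul_eq R x y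
        rw [derivedSeries_zero] at hspec
        have h1 : g = 1 := (Subgroup.mem_bot).1 (hspec ▸ Subgroup.mem_top g)
        rw [h1, one_smul] at hg
        exact hxy hg
      · refine ⟨derivedSeries R n, derivedSeries_normal R n, fun h => Nat.find_min hex (by omega) h, ?_⟩
        rw [derivedSeries_succ, Subgroup.commutator_eq_bot_iff_le_centralizer] at hspec
        exact fun x hx y hy => (Subgroup.mem_centralizer_iff.1 (hspec hx) y hy).symm
    haveI := hAn
    haveI hAtr : IsPretransitive A α := by
      apply IsQuasiPreprimitive.isPretransitive_of_normal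
      intro hall
      apply hAne
      rw [eq_bot_iff]
      intro x hx
      rw [Subgroup.mem_bot]
      exact Subtype.ext (Equiv.ext fun a => (Set.eq_univ_iff_forall.1 hall a) ⟨x, hx⟩)
    have hreg : ∀ x ∈ A, ∀ a : α, x • a = a → x = 1 := by
      intro x hx a hxa
      refine Subtype.ext (Equiv.ext fun b => ?_)
      obtain ⟨⟨y, hy⟩, rfl⟩ := exists_smul_eq A a b
      show x • y • a = y • a
      rw [← mul_smul, hAab x hx y hy, mul_smul, hxa]
    obtain ⟨a0⟩ : Nonempty α := inferInstance
    have hAcard : Nat.card A = p := by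
      rw [← hc]
      refine Nat.card_eq_of_bijective (fun x : A => (x : R) • a0) ⟨fun x y h => ?_, fun b => exists_smul_eq A a0 b⟩
      have h1 := hreg ((y : R)⁻¹ * (x : R)) (mul_mem (inv_mem y.2) x.2) a0
        (by rw [mul_smul, show (x : R) • a0 = (y : R) • a0 from h, inv_smul_smul])
      exact Subtype.ext (inv_mul_eq_one.1 h1).symm
    have hpA : ∀ x : R, x ^ p = 1 → x ∈ A := by
      intro x hx
      by_contra hxA
      have hq : orderOf (x : R ⧸ A) = p := by
        haveI := Fact.mk hp
        exact orderOf_eq_prime (by rw [← QuotientGroup.mk_pow, hx]; rfl)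
          fun h => hxA ((QuotientGroup.eq_one_iff x).1 h)
      have h1 : p ^ 2 ∣ Nat.card R := by
        rw [← A.card_mul_index, hAcard, pow_two]
        exact mul_dvd_mul_left p (hq ▸ orderOf_dvd_natCard (x : R ⧸ A))
      apply sq_not_dvd_factorial hp
      have h2 := h1.trans (Subgroup.card_subgroup_dvd_card R)
      rwa [Nat.card_eq_fintype_card (α := Equiv.Perm α), Fintype.card_perm, hpc] at h2
    have hcent : ∀ x : R, (∀ y ∈ A, x * y = y * x) → x ∈ A := by
      intro x hx
      obtain ⟨⟨y, hy⟩, he⟩ := exists_smul_eq A a0 (x • a0)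
      have he' : y • a0 = x • a0 := he
      suffices x = y by rwa [this]
      refine Subtype.ext (Equiv.ext fun b => ?_)
      obtain ⟨⟨z, hz⟩, rfl⟩ := exists_smul_eq A a0 b
      show x • z • a0 = y • z • a0
      rw [← mul_smul, hx z hz, mul_smul, ← he', ← mul_smul, ← mul_smul, hAab z hz y hy]
    refine ⟨fun h k hh hk x => ?_, fun h x y hxy hx hy z => ?_⟩
    · have e : ∀ g : H, (∀ x : α, g ^ p • x = x) → (⟨_, hmem g⟩ : R) ∈ A := fun g hg =>
        hpA _ (Subtype.ext (by
          rw [SubgroupClass.coe_pow, ← map_pow]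
          exact Equiv.ext fun x => hg x))
      have := hAab _ (e h hh) _ (e k hk)
      exact DFunLike.congr_fun (congrArg Subtype.val this) x
    · obtain ⟨g, hg⟩ : ∃ g : R, g = ⟨_, hmem h⟩ := ⟨_, rfl⟩
      obtain ⟨⟨a, ha⟩, hay⟩ := exists_smul_eq A x y
      have hay' : a • x = y := hay
      have hgx : g • x = x := by rw [hg]; exact hx
      have hgy : g • y = y := by rw [hg]; exact hy
      have hconj : g * a * g⁻¹ = a := by
        have hm : g * a * g⁻¹ ∈ A := hAn.conj_mem a ha g
        refine (inv_mul_eq_one.1 (hreg (a⁻¹ * (g * a * g⁻¹)) (mul_mem (inv_mem ha) hm) x ?_)).symm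
        rw [mul_smul, mul_smul, mul_smul, inv_smul_eq_iff.2 hgx.symm, hay', hgy, ← hay', inv_smul_smul]
      have hgA : g ∈ A := by
        refine hcent g fun u hu => ?_
        have hne : (⟨a, ha⟩ : A) ≠ 1 := fun h => hxy (by
          rw [← hay', show a = 1 from congrArg Subtype.val h, one_smul])
        haveI := Fact.mk hp
        obtain ⟨n, hn⟩ : ∃ n : ℤ, (⟨a, ha⟩ : A) ^ n = ⟨u, hu⟩ :=
          Subgroup.mem_zpowers_iff.1 (mem_zpowers_of_prime_card hAcard hne)
        have hn' : a ^ n = u := congrArg Subtype.val hn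
        rw [← hn']
        exact Commute.zpow_right (mul_inv_eq_iff_eq_mul.1 hconj) n
      have := hreg g hgA x hgx
      rw [hg] at this
      exact DFunLike.congr_fun (congrArg Subtype.val this) z
  · left
    intro x y x' y' hxy hxy'
    obtain ⟨g, hg1, hg2⟩ := is_two_pretransitive_iff.1 h2 hxy hxy'
    obtain ⟨h, hh⟩ := (hR ▸ g.2 : (g : Equiv.Perm α) ∈ (MulAction.toPermHom H α).range)
    refine ⟨h, ?_, ?_⟩
    · show MulAction.toPermHom H α h x = x'
      rw [hh]; exact hg1
    · show MulAction.toPermHom H α h y = y'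
      rw [hh]; exact hg2

end CfsgLib.PGroup.DoublyPrimitive
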