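import Cfsg.Agent.Lib.PGroup.DoublyPrimitive.Design

/-!
# Translations in a block kernel acting affinely on the blocks

`E a` consists of the elements of `K a` of order dividing `p`; unless it has order `p` the lines are symmetric.
-/

set_option autoImplicit false
set_option linter.unusedSectionVars false
set_option linter.style.haveILetI false

namespace CfsgLib.PGroup.DoublyPrimitive

open MulAction

variable {G Ω : Type*} [Group G] [Finite G] [Finite Ω] [MulAction G Ω] [FaithfulSMul G Ω] {p : ℕ}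

namespace Sys

variable (S : Sys G Ω p) {a b c : Ω}

/-- On each block, elements of `K a` with trivial `p`-th power commute. -/
def Aff : Prop := ∀ a b : Ω, a ≠ b → ∀ h ∈ S.K a, ∀ k ∈ S.K a, (∀ x ∈ S.B a b, h ^ p • x = x) →
  (∀ x ∈ S.B a b, k ^ p • x = x) → ∀ x ∈ S.B a b, h • k • x = k • h • x

/-- A block as a set acted on by the block kernel. -/
def blockSet (h : a ≠ b) : SubMulAction (S.K a) Ω where
  carrier := S.B a b
  smul_mem' k x hx := by
    have := k.2.2 x (S.ne h hx).symm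
    rwa [S.eq_of_mem h hx] at this

include S

theorem card_blockSet (h : a ≠ b) : Nat.card (S.blockSet h) = p :=
  (Nat.card_coe_set_eq (S.B a b)).trans (S.card_B h)

theorem pow_p_eq_one {k : G} {j : ℕ} (hk : k ∈ S.K a) (hj : k ^ p ^ j = 1) : k ^ p = 1 := by
  refine FaithfulSMul.eq_of_smul_eq_smul (α := Ω) fun x => ?_
  rw [one_smul]
  rcases eq_or_ne a x with rfl | hx
  · exact (pow_mem hk p).1
  · exact congrArg Subtype.val (pow_p_smul (H := S.K a) (α := S.blockSet hx) S.prime (S.card_blockSet hx)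
      (g := ⟨k, hk⟩) (j := j) (Subtype.ext hj) ⟨x, S.mem hx⟩)

theorem comm_of_pow (hA : S.Aff) {h k : G} (hh : h ∈ S.K a) (hk : k ∈ S.K a) (hhp : h ^ p = 1)
    (hkp : k ^ p = 1) : h * k = k * h := by
  refine FaithfulSMul.eq_of_smul_eq_smul (α := Ω) fun x => ?_
  rw [mul_smul, mul_smul]
  rcases eq_or_ne a x with rfl | hx
  · rw [hk.1, hh.1, hk.1]
  · exact hA a x hx h hh k hk (fun y _ => by rw [hhp, one_smul]) (fun y _ => by rw [hkp, one_smul]) x (S.mem hx)

omit S

/-- Elements of order dividing `p` of the block kernel. -/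
def E (hA : S.Aff) (a : Ω) : Subgroup G where
  carrier := {k | k ∈ S.K a ∧ k ^ p = 1}
  one_mem' := ⟨one_mem _, one_pow _⟩
  mul_mem' {h k} hh hk := ⟨mul_mem hh.1 hk.1, by
    have hc : Commute h k := S.comm_of_pow hA hh.1 hk.1 hh.2 hk.2
    rw [hc.mul_pow, hh.2, hk.2, one_mul]⟩
  inv_mem' {h} hh := ⟨inv_mem hh.1, by rw [inv_pow, hh.2, inv_one]⟩

include S

theorem mem_E (hA : S.Aff) {k : G} : k ∈ S.E hA a ↔ k ∈ S.K a ∧ k ^ p = 1 := Iff.rfl

theorem E_le (hA : S.Aff) (a : Ω) : S.E hA a ≤ S.K a := fun _ h => h.1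

theorem E_comm (hA : S.Aff) {h k : G} (hh : h ∈ S.E hA a) (hk : k ∈ S.E hA a) : h * k = k * h :=
  S.comm_of_pow hA hh.1 hk.1 hh.2 hk.2

theorem E_conj (hA : S.Aff) (g : G) (a : Ω) (k : G) : k ∈ S.E hA a ↔ g * k * g⁻¹ ∈ S.E hA (g • a) := by
  rw [mem_E, mem_E, ← S.K_conj g a k, conj_pow, conj_eq_one_iff]

theorem E_normal (hA : S.Aff) {g k : G} (hg : g • a = a) (hk : k ∈ S.E hA a) : g * k * g⁻¹ ∈ S.E hA a := by
  have := (S.E_conj hA g a k).1 hk
  rwa [hg] at this

theorem E_ne_bot (hA : S.Aff) (a : Ω) : S.E hA a ≠ ⊥ := by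
  haveI := Fact.mk S.prime
  obtain ⟨b, h⟩ := S.exists_other a
  obtain ⟨k, hk⟩ := exists_prime_orderOf_dvd_card' (G := S.K a) p ⟨_, (S.card_K h).symm⟩
  intro hbot
  have hmem : (k : G) ∈ S.E hA a :=
    ⟨k.2, orderOf_dvd_iff_pow_eq_one.1 (by rw [Subgroup.orderOf_coe, hk])⟩
  rw [hbot, Subgroup.mem_bot] at hmem
  rw [← Subgroup.orderOf_coe, hmem, orderOf_one] at hk
  exact S.prime.one_lt.ne hk

theorem orbit_E (hA : S.Aff) (h : a ≠ b) : orbit (S.E hA a) b = S.B a b :=
  S.orbit_eq_B (S.E_le hA a) (fun _ hg _ hk => S.E_normal hA hg hk) (S.E_ne_bot hA a) h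

theorem exists_E (hA : S.Aff) (h : a ≠ b) (hc : c ∈ S.B a b) : ∃ k ∈ S.E hA a, k • b = c := by
  rw [← S.orbit_E hA h] at hc
  exact mem_orbit_sub.1 hc

theorem card_E (hA : S.Aff) (h : a ≠ b) :
    p * Nat.card ↥(S.E hA a ⊓ stabilizer G b) = Nat.card (S.E hA a) := by
  calc p * _ = (orbit (S.E hA a) b).ncard * Nat.card ↥(S.E hA a ⊓ stabilizer G b) := by
        rw [S.orbit_E hA h, S.card_B h]
    _ = _ := orbit_mul _ _

theorem mem_E_of_pow (hA : S.Aff) {g : G} {j : ℕ} (hga : g • a = a) (h : a ≠ b) (hgb : g • b ∈ S.B a b)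
    (hj : g ^ p ^ j = 1) : g ∈ S.E hA a := by
  have hK : g ∈ S.K a := by
    refine (S.mem_K_iff_blk hga).2 fun s => smul_eq_of_fixed (H := stabilizer G a) S.prime (S.card_Blk a)
      (fun t => pow_p_smul (H := stabilizer G a) S.prime (S.card_Blk a) (j := j) (Subtype.ext hj) t) (x₀ := S.blk h)
      ?_ s
    rw [smul_blk, eq_comm, S.blk_eq h]
    exact hgb
  exact ⟨hK, S.pow_p_eq_one hK hj⟩

theorem Eb_symm (hA : S.Aff) (h : a ≠ b) : S.E hA a ⊓ stabilizer G b = S.E hA b ⊓ stabilizer G a := by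
  have key : ∀ {a b : Ω}, a ≠ b → S.E hA a ⊓ stabilizer G b ≤ S.E hA b ⊓ stabilizer G a := by
    intro a b h g hg
    refine ⟨S.mem_E_of_pow hA (j := 1) hg.2 h.symm ?_ (by rw [pow_one]; exact hg.1.2), hg.1.1.1⟩
    rw [show g • a = a from hg.1.1.1]
    exact S.mem h.symm
  exact le_antisymm (key h) (key h.symm)

theorem card_E_eq (hA : S.Aff) (a b : Ω) : Nat.card (S.E hA a) = Nat.card (S.E hA b) := by
  rcases eq_or_ne a b with rfl | h
  · rfl
  obtain ⟨g, hga, -⟩ := S.tt h h.symm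
  exact card_eq_of_conj g fun k => by rw [S.E_conj hA g a k, hga]

theorem mem_of_comm_E (hA : S.Aff) {k : G} (hk : k ∈ S.K a) (hc : ∀ e ∈ S.E hA a, k * e = e * k) :
    k ∈ S.E hA a := by
  refine ⟨hk, FaithfulSMul.eq_of_smul_eq_smul (α := Ω) fun x => ?_⟩
  rw [one_smul]
  rcases eq_or_ne a x with rfl | hx
  · exact (pow_mem hk p).1
  obtain ⟨e, he, hex⟩ := S.exists_E hA hx (hk.2 x hx)
  have hy : ∀ y ∈ S.B a x, k • y = e • y := by
    intro y hy
    obtain ⟨u, hu, rfl⟩ := S.exists_E hA hx hy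
    rw [← mul_smul, hc u hu, mul_smul, ← hex, ← mul_smul, S.E_comm hA hu he, mul_smul]
  have hn : ∀ n : ℕ, k ^ n • x = e ^ n • x ∧ e ^ n • x ∈ S.B a x := by
    intro n
    induction n with
    | zero => simpa using S.mem hx
    | succ n ih =>
      refine ⟨by rw [pow_succ', pow_succ', mul_smul, mul_smul, ih.1, hy _ ih.2], ?_⟩
      exact (pow_mem (S.E_le hA a he) (n + 1)).2 x hx
  rw [(hn p).1, he.2, one_smul]

/-- Unless the group of translations has order `p` the lines are symmetric. -/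
theorem card_E_eq_prime (hA : S.Aff) (a : Ω) : Nat.card (S.E hA a) = p := by
  by_contra hne
  have hne' : ∀ x : Ω, Nat.card (S.E hA x) ≠ p := fun x => S.card_E_eq hA a x ▸ hne
  obtain ⟨b, h⟩ := S.exists_other a
  have hle : ∀ {x y : Ω}, a ≠ x → a ≠ y → S.E hA a ⊓ stabilizer G x ≤ stabilizer G y →
      S.E hA a ⊓ stabilizer G x = S.E hA a ⊓ stabilizer G y := by
    intro x y hx hy hxy
    refine Subgroup.eq_of_le_of_card_ge (le_inf inf_le_left hxy) (le_of_eq ?_)
    have h1 := S.card_E hA hx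
    have h2 := S.card_E hA hy
    rw [← h1] at h2
    exact Nat.eq_of_mul_eq_mul_left S.prime.pos h2
  obtain ⟨F, hF⟩ : ∃ F : Ω → Set Ω,
      F = fun u => {x | a ≠ x ∧ S.E hA a ⊓ stabilizer G x = S.E hA a ⊓ stabilizer G u} := ⟨_, rfl⟩
  have hBF : S.B a b ⊆ F b := by
    intro x hx
    rw [hF]
    refine ⟨(S.ne h hx).symm, (hle h (S.ne h hx).symm fun g hg => ?_).symm⟩
    obtain ⟨e, he, rfl⟩ := S.exists_E hA h hx
    show g • e • b = e • b
    rw [← mul_smul, S.E_comm hA hg.1 he, mul_smul, show g • b = b from hg.2]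
  have hconst : ∀ u, a ≠ u → (F u).ncard = (F b).ncard := by
    intro u hu
    obtain ⟨g, hga, rfl⟩ := S.tt h hu
    have hga' : g • a = a := hga
    refine Eq.trans ?_ (Set.ncard_image_of_injective _ (MulAction.injective g))
    congr 1
    rw [hF]
    ext z
    obtain ⟨w, rfl⟩ := MulAction.surjective g z
    rw [(MulAction.injective g).mem_set_image]
    have hiff : ∀ (v : Ω) (k : G), k ∈ S.E hA a ⊓ stabilizer G v ↔ g * k * g⁻¹ ∈ S.E hA a ⊓ stabilizer G (g • v) := by
      intro v k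
      rw [Subgroup.mem_inf, Subgroup.mem_inf, S.E_conj hA g a k, hga']
      refine and_congr Iff.rfl ?_
      show k • v = v ↔ (g * k * g⁻¹) • g • v = g • v
      rw [mul_smul, mul_smul, inv_smul_smul, smul_left_cancel_iff]
    refine and_congr ⟨fun hn e => hn (by rw [← e]; exact hga'.symm), fun hn => hga' ▸ inv_smul_ne g hn⟩ ⟨fun e => ?_, fun e => ?_⟩
    · ext k
      rw [hiff w, hiff b, e]
    · ext k
      obtain ⟨v, rfl⟩ : ∃ v, g * v * g⁻¹ = k := ⟨g⁻¹ * k * g, by group⟩
      rw [← hiff w, ← hiff b, e]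
  have hpart := ncard_eq_mul_image (fun x => S.E hA a ⊓ stabilizer G x) ({a}ᶜ : Set Ω) (u := (F b).ncard)
    fun x hx => by
      rw [← hconst x (Ne.symm hx), hF]
      congr 1
      ext y
      exact and_congr ⟨Ne.symm, Ne.symm⟩ Iff.rfl
  rw [S.card_compl] at hpart
  obtain ⟨i, hi, he⟩ := (Nat.dvd_prime_pow S.prime).1 (Dvd.intro_left _ hpart.symm)
  have hp2 := S.prime.two_le
  have hFB : p ≤ (F b).ncard := S.card_B h ▸ Set.ncard_le_ncard hBF (Set.toFinite _)
  interval_cases i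
  · rw [pow_zero] at he; omega
  · -- symmetric lines
    rw [pow_one] at he
    have hEq : F b = S.B a b :=
      (Set.eq_of_subset_of_ncard_le hBF (by rw [he, S.card_B h]) (Set.toFinite _)).symm
    have hfix : {z | ∀ g ∈ S.E hA a ⊓ stabilizer G b, g • z = z} = S.L a b := by
      ext z
      constructor
      · intro hz
        rcases eq_or_ne a z with rfl | haz
        · exact S.left_mem_L
        · refine Set.mem_insert_of_mem _ ?_
          rw [← hEq, hF]
          exact ⟨haz, (hle h haz hz).symm⟩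
      · rintro (rfl | hz) g hg
        · exact hg.1.1.1
        · rw [← hEq, hF] at hz
          exact (hz.2.symm ▸ hg : g ∈ S.E hA a ⊓ stabilizer G z).2
    refine S.sym_false ⟨a, b, h, ?_⟩
    have hfix' : {z | ∀ g ∈ S.E hA b ⊓ stabilizer G a, g • z = z} = S.L b a := by
      obtain ⟨w, hwa, hwb⟩ := S.exists_swap h
      ext z
      obtain ⟨z, rfl⟩ := MulAction.surjective w z
      show w • z ∈ {z | ∀ g ∈ S.E hA b ⊓ stabilizer G a, g • z = z} ↔ w • z ∈ S.L b a
      have h1 := S.mem_L_smul (c := z) w h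
      rw [hwa, hwb] at h1
      rw [h1, ← hfix]
      have hiff : ∀ k, k ∈ S.E hA a ⊓ stabilizer G b ↔
          w * k * w⁻¹ ∈ S.E hA b ⊓ stabilizer G a := by
        intro k
        rw [Subgroup.mem_inf, Subgroup.mem_inf, S.E_conj hA w a k, hwa]
        refine and_congr Iff.rfl ?_
        show k • b = b ↔ (w * k * w⁻¹) • a = a
        conv_rhs => rw [← hwb]
        rw [mul_smul, mul_smul, inv_smul_smul, smul_left_cancel_iff]
      constructor
      · intro hz g hg
        have := hz _ ((hiff g).1 hg)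
        rwa [mul_smul, mul_smul, inv_smul_smul, smul_left_cancel_iff] at this
      · intro hz g hg
        obtain ⟨v, rfl⟩ : ∃ v, w * v * w⁻¹ = g := ⟨w⁻¹ * g * w, by group⟩
        rw [mul_smul, mul_smul, inv_smul_smul, hz v ((hiff v).2 hg)]
    rw [← hfix, ← hfix', S.Eb_symm hA h]
  · apply hne
    have hall : F b = {a}ᶜ := Set.eq_of_subset_of_ncard_le
      (fun x hx => by rw [hF] at hx; exact Ne.symm hx.1) (by rw [he, S.card_compl]) (Set.toFinite _)
    have hbot : S.E hA a ⊓ stabilizer G b = ⊥ := by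
      rw [eq_bot_iff]
      intro g hg
      rw [Subgroup.mem_bot]
      refine FaithfulSMul.eq_of_smul_eq_smul (α := Ω) fun x => ?_
      rw [one_smul]
      rcases eq_or_ne a x with rfl | hx
      · exact hg.1.1.1
      have hm : x ∈ F b := hall ▸ Ne.symm hx
      rw [hF] at hm
      exact (hm.2.symm ▸ hg : g ∈ S.E hA a ⊓ stabilizer G x).2
    have := S.card_E hA h
    rw [hbot, Subgroup.card_bot, mul_one] at this
    exact this.symm

end Sys

end CfsgLib.PGroup.DoublyPrimitive
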