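import Cfsg.Agent.Lib.PGroup.DoublyPrimitive.Orbits

/-!
# The case of a block kernel that is doubly transitive on the blocks

Either the reversed blocks give the same design, or one is led to an incidence structure between two blocks
with impossible parameters.
-/

set_option autoImplicit false
set_option linter.unusedSectionVars false
set_option linter.style.haveILetI false

namespace CfsgLib.PGroup.DoublyPrimitive

open MulAction

variable {G Ω : Type*} [Group G] [Finite G] [Finite Ω] [MulAction G Ω] [FaithfulSMul G Ω] {p : ℕ}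

namespace Sys

variable (S : Sys G Ω p) {a b c : Ω}
include S

theorem pair_normal {g : G} (hga : g • a = a) (hgb : g • b = b) :
    ∀ k, k ∈ S.Kb a b ↔ g * k * g⁻¹ ∈ S.Kb a b := fun k => by
  have := S.Kb_conj g a b k
  rwa [hga, hgb] at this

theorem stab_block {g : G} (hg : g ∈ stabilizer G a ⊓ stabilizer G b) {x : Ω} (h : a ≠ b) :
    g • x ∈ S.B a b ↔ x ∈ S.B a b := by
  have := S.smul_mem_iff_fixed (c := x) (g := g) hg.1 h
  rwa [show g • b = b from hg.2] at this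

theorem orbit_X (h2 : S.TwoT) (h : a ≠ b) {x : Ω} (hx : x ∈ S.B a b) (hxb : x ≠ b) :
    orbit (stabilizer G a ⊓ stabilizer G b : Subgroup G) x = S.B a b \ {b} := by
  refine Set.Subset.antisymm ?_ ?_
  · intro y hy
    obtain ⟨g, hg, rfl⟩ := mem_orbit_sub.1 hy
    refine ⟨(S.stab_block hg h).2 hx, fun e => hxb ?_⟩
    exact smul_left_cancel g ((Set.mem_singleton_iff.1 e).trans (show g • b = b from hg.2).symm)
  · rw [← S.orbit_Kb_block h2 h (S.mem h) hx hxb.symm]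
    intro y hy
    obtain ⟨k, hk, rfl⟩ := mem_orbit_sub.1 hy
    exact mem_orbit_sub.2 ⟨k, S.Kb_le a b hk, rfl⟩

theorem orbit_X' (h2 : S.TwoT) (h : a ≠ b) {x : Ω} (hx : x ∈ S.B b a) (hxa : x ≠ a) :
    orbit (stabilizer G a ⊓ stabilizer G b : Subgroup G) x = S.B b a \ {a} := by
  rw [inf_comm]; exact S.orbit_X h2 h.symm hx hxa

theorem disjoint_X (h2 : S.TwoT) (h : a ≠ b) {x : Ω} (hx' : x ∈ S.B b a) (hxa : x ≠ a) :
    x ∉ S.B a b := by
  intro hx
  have hxb : x ≠ b := S.ne h.symm hx'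
  have e := (S.orbit_X h2 h hx hxb).symm.trans (S.orbit_X' h2 h hx' hxa)
  refine S.sym_false ⟨a, b, h, ?_⟩
  have e1 : S.B a b = insert b (S.B a b \ {b}) := by
    rw [Set.insert_sdiff_singleton, Set.insert_eq_of_mem (S.mem h)]
  rw [L, L, e1, e, Set.insert_comm, Set.insert_sdiff_singleton, Set.insert_eq_of_mem (S.mem h.symm)]

omit S

/-- The points whose stabiliser in `K a` is that of `b`. -/
def F (a b : Ω) : Set Ω := {x | a ≠ x ∧ S.Kb a x = S.Kb a b}

include S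

theorem F_block (h2 : S.TwoT) (hp3 : 3 ≤ p) {x y : Ω} (hx : a ≠ x) (hy : y ∈ S.B a x)
    (he : S.Kb a y = S.Kb a x) : y = x := by
  by_contra hne
  obtain ⟨z, hz, hzx⟩ := Set.exists_ne_of_one_lt_ncard (s := S.B a x \ {x})
    (by rw [Set.ncard_sdiff_singleton_of_mem (S.mem hx), S.card_B hx]; omega) y
  rw [← S.orbit_Kb_block h2 hx (S.mem hx) hy (Ne.symm hne)] at hz
  obtain ⟨k, hk, rfl⟩ := mem_orbit_sub.1 hz
  rw [← he] at hk
  exact hzx hk.2

theorem F_ncard_smul (g : G) (a b : Ω) : (S.F (g • a) (g • b)).ncard = (S.F a b).ncard := by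
  refine Eq.trans ?_ (Set.ncard_image_of_injective _ (MulAction.injective g))
  congr 1
  ext z
  obtain ⟨w, rfl⟩ := MulAction.surjective g z
  rw [(MulAction.injective g).mem_set_image]
  refine and_congr ⟨fun hn e => hn (by rw [e]), inv_smul_ne g⟩ ⟨fun e => ?_, fun e => ?_⟩
  · ext k
    rw [S.Kb_conj g a w k, S.Kb_conj g a b k, e]
  · ext k
    obtain ⟨u, rfl⟩ : ∃ u, g * u * g⁻¹ = k := ⟨g⁻¹ * k * g, by group⟩
    rw [← S.Kb_conj g a w u, ← S.Kb_conj g a b u, e]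

theorem F_ncard_const {x y : Ω} (h : a ≠ b) (hxy : x ≠ y) : (S.F x y).ncard = (S.F a b).ncard := by
  obtain ⟨g, rfl, rfl⟩ := S.tt h hxy
  exact S.F_ncard_smul g a b

theorem F_injOn (h2 : S.TwoT) (hp3 : 3 ≤ p) (a b : Ω) : Set.InjOn (S.B a) (S.F a b) := fun x hx y hy he =>
  (S.F_block h2 hp3 hx.1 (he ▸ S.mem hy.1) (hy.2.trans hx.2.symm)).symm

theorem blocks_ncard (a : Ω) : (S.B a '' {a}ᶜ).ncard = p := by
  refine Eq.trans ?_ (S.card_Blk a)
  rw [← Nat.card_coe_set_eq]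
  exact Nat.card_congr (Equiv.subtypeEquivRight fun s =>
    ⟨fun ⟨x, hx, e⟩ => ⟨x, Ne.symm hx, e⟩, fun ⟨x, hx, e⟩ => ⟨x, Ne.symm hx, e⟩⟩)

theorem F_dichotomy (h2 : S.TwoT) (hp3 : 3 ≤ p) (h : a ≠ b) :
    (S.F a b).ncard = 1 ∨ (S.F a b).ncard = p := by
  have hle : (S.F a b).ncard ≤ p := by
    rw [← Set.InjOn.ncard_image (S.F_injOn h2 hp3 a b)]
    refine (Set.ncard_le_ncard ?_ (Set.toFinite _)).trans (S.blocks_ncard a).le
    exact Set.image_mono fun x hx => Ne.symm hx.1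
  have hpart := ncard_eq_mul_image (fun x => S.Kb a x) ({a}ᶜ : Set Ω) (u := (S.F a b).ncard) fun x hx => by
    rw [← S.F_ncard_const h (Ne.symm hx)]
    congr 1
    ext y
    exact and_congr ⟨Ne.symm, Ne.symm⟩ Iff.rfl
  rw [S.card_compl] at hpart
  obtain ⟨i, hi, he⟩ := (Nat.dvd_prime_pow S.prime).1 (Dvd.intro_left _ hpart.symm)
  have hp2 := S.prime.two_le
  interval_cases i
  · exact Or.inl (he.trans (pow_zero p))
  · exact Or.inr (he.trans (pow_one p))
  · exfalso; nlinarith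

/-- All point stabilisers of the block kernel fix a point in every block: impossible. -/
theorem all_false (h2 : S.TwoT) (hp3 : 3 ≤ p) (hall : ∀ a b : Ω, a ≠ b → (S.F a b).ncard = p) : False := by
  have hFb : ∀ a b : Ω, a ≠ b → b ∈ S.F a b := fun a b h => ⟨h, rfl⟩
  by_cases hsub : ∀ a b : Ω, a ≠ b → S.B b a \ {a} ⊆ S.F a b
  · have heq : ∀ a b : Ω, a ≠ b → S.L b a \ {a} = S.F a b := by
      intro a b h
      refine Set.eq_of_subset_of_ncard_le ?_ ?_ (Set.toFinite _)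
      · rintro x ⟨hx, hxa⟩
        rcases S.mem_L.1 hx with rfl | hx
        · exact hFb a x h
        · exact hsub a b h ⟨hx, hxa⟩
      · rw [hall a b h, Set.ncard_sdiff_singleton_of_mem (S.right_mem_L h.symm), S.card_L h.symm]
        omega
    refine S.master_false fun a b c h hc hca => ?_
    have hcF : c ∈ S.F a b := heq a b h ▸ ⟨hc, hca⟩
    rw [heq a b h, heq a c hcF.1]
    unfold F
    rw [hcF.2]
  push Not at hsub
  obtain ⟨a, b, h, hsub⟩ := hsub
  obtain ⟨z, hz, hzF⟩ := Set.not_subset.1 hsub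
  have hza : a ≠ z := Ne.symm hz.2
  have himg : S.B a '' S.F a b = S.B a '' {a}ᶜ :=
    Set.eq_of_subset_of_ncard_le (Set.image_mono fun x hx => Ne.symm hx.1)
      (by rw [S.blocks_ncard, Set.InjOn.ncard_image (S.F_injOn h2 hp3 a b), hall a b h]) (Set.toFinite _)
  obtain ⟨f, hfF, hf : S.B a f = S.B a z⟩ : S.B a z ∈ S.B a '' S.F a b := himg ▸ ⟨z, hz.2, rfl⟩
  have hfz : f ≠ z := fun e => hzF (e ▸ hfF)
  have horb : orbit (S.Kb a b) z = S.B a z \ {f} := by
    rw [← hfF.2, ← hf]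
    exact S.orbit_Kb_block h2 hfF.1 (S.mem hfF.1) (hf ▸ S.mem hza) hfz
  have hX : S.B a z \ {f} = S.B b a \ {a} := by
    refine Set.eq_of_subset_of_ncard_le ?_ ?_ (Set.toFinite _)
    · rw [← horb, ← S.orbit_X' h2 h hz.1 hz.2]
      intro y hy
      obtain ⟨k, hk, rfl⟩ := mem_orbit_sub.1 hy
      exact mem_orbit_sub.2 ⟨k, S.Kb_le a b hk, rfl⟩
    · rw [Set.ncard_sdiff_singleton_of_mem (show f ∈ S.B a z from hf ▸ S.mem hfF.1), Set.ncard_sdiff_singleton_of_mem (S.mem h.symm),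
        S.card_B hza, S.card_B h.symm]
  have hne : S.blk h ≠ S.blk hza := fun e =>
    S.disjoint_X h2 h hz.1 hz.2 ((S.blk_eq h hza).1 e)
  have hfixz : ∀ g : G, ∀ hg : g ∈ stabilizer G a ⊓ stabilizer G b,
      (⟨g, hg.1⟩ : stabilizer G a) • S.blk hza = S.blk hza := by
    intro g hg
    rw [smul_blk, eq_comm, S.blk_eq hza]
    have : g • z ∈ orbit (stabilizer G a ⊓ stabilizer G b : Subgroup G) z := mem_orbit_sub.2 ⟨g, hg, rfl⟩
    rw [S.orbit_X' h2 h hz.1 hz.2, ← hX] at this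
    exact this.1
  have hfix : ∀ u : stabilizer G a, u • S.blk h = S.blk h → u • S.blk hza = S.blk hza := by
    intro u hu
    rw [smul_blk, eq_comm, S.blk_eq h] at hu
    obtain ⟨k, hk, hkb⟩ := S.exists_K h hu
    have hg : k⁻¹ * (u : G) ∈ stabilizer G a ⊓ stabilizer G b :=
      ⟨(stabilizer G a).mul_mem ((stabilizer G a).inv_mem (S.K_le a hk)) u.2, by
        show (k⁻¹ * (u : G)) • b = b
        rw [mul_smul, inv_smul_eq_iff]; exact hkb.symm⟩
    have e : u = ⟨k, S.K_le a hk⟩ * ⟨_, hg.1⟩ := Subtype.ext (by simp)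
    rw [e, mul_smul, hfixz _ hg, (S.mem_K_iff_blk (S.K_le a hk)).1 hk]
  have hAb0 : stabilizer G a ⊓ stabilizer G b ≤ S.Kb a b := by
    intro g hg
    refine ⟨(S.mem_K_iff_blk hg.1).2 fun s => ?_, hg.2⟩
    refine fix_all_of_fix_second S.prime (S.card_Blk a) hne hfix (h := ⟨g, hg.1⟩) ?_ s
    rw [smul_blk]
    exact Subtype.ext (congrArg (S.B a) (hg.2 : g • b = b))
  have hAb : ∀ x y : Ω, x ≠ y → stabilizer G x ⊓ stabilizer G y ≤ S.Kb x y := by
    intro x y hxy g hg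
    obtain ⟨w, rfl, rfl⟩ := S.tt h hxy
    obtain ⟨u, rfl⟩ : ∃ u, w * u * w⁻¹ = g := ⟨w⁻¹ * g * w, by group⟩
    rw [← S.Kb_conj w a b u]
    refine hAb0 ⟨?_, ?_⟩
    · have := hg.1
      show u • a = a
      have h1 : (w * u * w⁻¹) • (w • a) = w • a := this
      rwa [mul_smul, mul_smul, inv_smul_smul, smul_left_cancel_iff] at h1
    · show u • b = b
      have h1 : (w * u * w⁻¹) • (w • b) = w • b := hg.2
      rwa [mul_smul, mul_smul, inv_smul_smul, smul_left_cancel_iff] at h1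
  have hM : ∀ x y : Ω, x ≠ y →
      insert x (S.F x y) = {z | ∀ g ∈ stabilizer G x ⊓ stabilizer G y, g • z = z} := by
    intro x y hxy
    ext z
    constructor
    · rintro (rfl | hzF) g hg
      · exact hg.1
      · exact (hzF.2.symm ▸ hAb x y hxy hg : g ∈ S.Kb x z).2
    · intro hz
      rcases eq_or_ne x z with rfl | hxz
      · exact Set.mem_insert _ _
      · exact Set.mem_insert_of_mem _ ⟨hxz,
          (S.Kb_eq_of_le hxy hxz fun g hg => hz g (S.Kb_le x y hg)).symm⟩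
  refine design_false S.prime S.card_univ (fun x y => insert x (S.F x y))
    (fun x y hxy => ?_) (fun _ _ _ => Set.mem_insert _ _) (fun x y hxy => Set.mem_insert_of_mem _ (hFb x y hxy))
    (fun x y hxy => ?_) fun x y z hxy hz hzx => ?_
  · rw [Set.ncard_insert_of_notMem (fun hm => hm.1 rfl) (Set.toFinite _), hall x y hxy]
  · show insert x (S.F x y) = insert y (S.F y x)
    rw [hM x y hxy, hM y x hxy.symm, inf_comm]
  · show insert x (S.F x z) = insert x (S.F x y)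
    unfold F
    rw [(hz.resolve_left hzx).2]

/-- No point stabiliser of the block kernel fixes a further point: impossible. -/
theorem none_false (h2 : S.TwoT) (hp3 : 3 ≤ p) (hnone : ∀ a b : Ω, a ≠ b → (S.F a b).ncard = 1) : False := by
  obtain ⟨a⟩ : Nonempty Ω := Nat.card_pos_iff.1 (by rw [S.card_univ]; omega) |>.1
  obtain ⟨b, h⟩ := S.exists_other a
  obtain ⟨z₀, hz₀⟩ : ∃ z₀, z₀ ∈ S.B b a \ {a} := by
    refine Set.nonempty_of_ncard_ne_zero ?_
    rw [Set.ncard_sdiff_singleton_of_mem (S.mem h.symm), S.card_B h.symm]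
    omega
  have hz : a ≠ z₀ := Ne.symm hz₀.2
  have hzB : z₀ ∉ S.B a b := S.disjoint_X h2 h hz₀.1 hz₀.2
  have hbig : ∀ w, a ≠ w → w ∉ S.B a b → 2 ≤ (orbit (S.Kb a b) w).ncard := by
    intro w hw hwB
    by_contra hcon
    have h1 : (orbit (S.Kb a b) w).ncard = 1 := by have := one_le_orbit (S.Kb a b) w; omega
    obtain ⟨y, hy⟩ := Set.ncard_eq_one.1 h1
    have hfix : S.Kb a b ≤ stabilizer G w := fun k hk => by
      have h2 : k • w ∈ orbit (S.Kb a b) w := mem_orbit_sub.2 ⟨k, hk, rfl⟩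
      have h3 := mem_orbit_self (M := S.Kb a b) w
      rw [hy, Set.mem_singleton_iff] at h2 h3
      exact h2.trans h3.symm
    obtain ⟨f, hf⟩ := Set.ncard_eq_one.1 (hnone a b h)
    have hb' : b ∈ S.F a b := ⟨h, rfl⟩
    have hw' : w ∈ S.F a b := ⟨hw, (S.Kb_eq_of_le h hw hfix).symm⟩
    rw [hf, Set.mem_singleton_iff] at hb' hw'
    exact hwB (by rw [hw', ← hb']; exact S.mem h)
  obtain ⟨ℓ, hℓ⟩ : ∃ ℓ, ℓ = (orbit (S.Kb a b) z₀).ncard := ⟨_, rfl⟩
  have hℓ2 : 2 ≤ ℓ := hℓ ▸ hbig z₀ hz hzB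
  have hO1 : orbit (S.Kb a b) z₀ ⊆ S.B a z₀ := fun y hy => by
    obtain ⟨k, hk, rfl⟩ := mem_orbit_sub.1 hy
    exact hk.1.2 z₀ hz
  have hX' := S.orbit_X' h2 h hz₀.1 hz₀.2
  have hpart := ncard_eq_mul_image (fun y => orbit (S.Kb a b) y) (S.B b a \ {a}) (u := ℓ) fun y hy => by
    rw [← hX', mem_orbit_sub] at hy
    obtain ⟨g, hg, rfl⟩ := hy
    rw [hℓ, ← orbit_conj (S.pair_normal hg.1 hg.2) z₀]
    congr 1
    ext w
    constructor
    · rintro ⟨-, e⟩
      rw [← show orbit (S.Kb a b) w = orbit (S.Kb a b) (g • z₀) from e]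
      exact mem_orbit_self w
    · intro hw
      refine ⟨?_, orbit_eq_of_mem hw⟩
      obtain ⟨k, hk, rfl⟩ := mem_orbit_sub.1 hw
      rw [← hX']
      exact mem_orbit_sub.2 ⟨k * g, mul_mem (S.Kb_le a b hk) hg, mul_smul _ _ _⟩
  rw [Set.ncard_sdiff_singleton_of_mem (S.mem h.symm), S.card_B h.symm] at hpart
  obtain ⟨m, hm⟩ : ∃ m, p - 1 = m * ℓ := ⟨_, hpart⟩
  -- the two orbits in the block of `z₀`
  have hℓp : ℓ ≤ p - 1 := by
    rw [hm]
    rcases Nat.eq_zero_or_pos m with rfl | hm0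
    · omega
    · exact Nat.le_mul_of_pos_left ℓ hm0
  obtain ⟨w₀, hw₀, hw₀'⟩ : ∃ w₀ ∈ S.B a z₀, w₀ ∉ orbit (S.Kb a b) z₀ :=
    Set.exists_mem_notMem_of_ncard_lt_ncard (by rw [S.card_B hz, ← hℓ]; omega)
  have hO2sub : ∀ w ∈ S.B a z₀, orbit (S.Kb a b) w ⊆ S.B a z₀ := fun w hw y hy => by
    obtain ⟨k, hk, rfl⟩ := mem_orbit_sub.1 hy
    rw [← S.eq_of_mem hz hw]
    exact hk.1.2 w (S.ne hz hw).symm
  have hO2 : orbit (S.Kb a b) w₀ = S.B a z₀ \ orbit (S.Kb a b) z₀ := by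
    refine Set.Subset.antisymm (fun y hy => ⟨hO2sub w₀ hw₀ hy, fun hy' => hw₀' ?_⟩) fun y hy => ?_
    · rw [← orbit_eq_of_mem hy', orbit_eq_of_mem hy]
      exact mem_orbit_self _
    · by_contra hy'
      exact S.three_orbits_false h2 h hz (S.mem hz) hw₀ hy.1 hw₀' hy.2 hy'
  have hO2card : (orbit (S.Kb a b) w₀).ncard = p - ℓ := by
    rw [hO2, Set.ncard_sdiff hO1 (Set.toFinite _), S.card_B hz, hℓ]
  have hm2 : 2 ≤ m := by
    have hw2 := hbig w₀ (S.ne hz hw₀).symm fun hwB => hzB (by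
      rw [← S.eq_of_mem h hwB, S.eq_of_mem hz hw₀]; exact S.mem hz)
    rw [hO2card] at hw2
    by_contra hcon
    interval_cases m <;> omega
  -- the stabiliser of two blocks
  have hne : S.blk h ≠ S.blk hz := fun e => hzB ((S.blk_eq h hz).1 e)
  have haff : Affine (stabilizer G a) (S.Blk a) p := by
    rcases two_trans_or_affine (H := stabilizer G a) S.prime (S.card_Blk a) with htt | haff
    · exfalso
      have hsur : S.B a '' (S.B b a \ {a}) = (S.B a '' {a}ᶜ) \ {S.B a b} := by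
        refine Set.Subset.antisymm ?_ ?_
        · rintro _ ⟨y, hy, rfl⟩
          refine ⟨⟨y, hy.2, rfl⟩, fun e => S.disjoint_X h2 h hy.1 hy.2 ?_⟩
          rw [← show S.B a y = S.B a b from e]
          exact S.mem (Ne.symm hy.2)
        · rintro _ ⟨⟨x, hx, rfl⟩, hxb⟩
          obtain ⟨u, hu1, hu2⟩ := htt (S.blk h) (S.blk hz) (S.blk h) (S.blk (Ne.symm hx : a ≠ x)) hne
            fun e => hxb (congrArg Subtype.val e).symm
          rw [smul_blk, eq_comm, S.blk_eq h] at hu1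
          obtain ⟨k, hk, hkb⟩ := S.exists_K h hu1
          have hg : k⁻¹ * (u : G) ∈ stabilizer G a ⊓ stabilizer G b :=
            ⟨(stabilizer G a).mul_mem ((stabilizer G a).inv_mem (S.K_le a hk)) u.2, by
              show (k⁻¹ * (u : G)) • b = b
              rw [mul_smul, inv_smul_eq_iff]; exact hkb.symm⟩
          rw [← hX']
          refine ⟨_, mem_orbit_sub.2 ⟨_, hg, rfl⟩, ?_⟩
          rw [smul_blk] at hu2
          have e1 : S.B a ((u : G) • z₀) = S.B a x := congrArg Subtype.val hu2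
          rw [← e1, mul_smul]
          exact S.eq_of_mem (fixed_ne u.2 hz) ((inv_mem hk : k⁻¹ ∈ S.K a).2 _ (fixed_ne u.2 hz))
      have hcard : (S.B a '' (S.B b a \ {a})).ncard = (S.B b a \ {a}).ncard := by
        have hbm : S.B a b ∈ S.B a '' {a}ᶜ := ⟨b, Ne.symm h, rfl⟩
        rw [hsur, Set.ncard_sdiff_singleton_of_mem hbm, S.blocks_ncard,
          Set.ncard_sdiff_singleton_of_mem (S.mem h.symm), S.card_B h.symm]
      have hinj := (Set.ncard_image_iff (Set.toFinite _)).1 hcard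
      obtain ⟨y, hy, hyz⟩ := Set.exists_ne_of_one_lt_ncard (s := orbit (S.Kb a b) z₀) (by omega) z₀
      have hy' : y ∈ S.B b a \ {a} := by
        rw [← hX']
        obtain ⟨k, hk, rfl⟩ := mem_orbit_sub.1 hy
        exact mem_orbit_sub.2 ⟨k, S.Kb_le a b hk, rfl⟩
      exact hyz (hinj hy' hz₀ (S.eq_of_mem hz (hO1 hy)))
    · exact haff
  have hcardA : Nat.card ↥(stabilizer G a ⊓ stabilizer G b) = m * Nat.card (S.Kb a b) := by
    have h1 := orbit_mul (stabilizer G a ⊓ stabilizer G b) z₀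
    have e : stabilizer G a ⊓ stabilizer G b ⊓ stabilizer G z₀ = S.Kb a b ⊓ stabilizer G z₀ := by
      refine le_antisymm (fun g hg => ⟨⟨(S.mem_K_iff_blk hg.1.1).2 ?_, hg.1.2⟩, hg.2⟩)
        (inf_le_inf_right _ (S.Kb_le a b))
      refine haff.fix_two _ (S.blk h) (S.blk hz) hne ?_ ?_
      · rw [smul_blk]; exact Subtype.ext (congrArg (S.B a) (hg.1.2 : g • b = b))
      · rw [smul_blk]; exact Subtype.ext (congrArg (S.B a) (hg.2 : g • z₀ = z₀))
    rw [hX', Set.ncard_sdiff_singleton_of_mem (S.mem h.symm), S.card_B h.symm, e, hm] at h1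
    rw [← h1, ← orbit_mul (S.Kb a b) z₀, hℓ, mul_assoc]
  -- the intersection of the two kernels
  obtain ⟨g, hga, hgb⟩ := S.exists_swap h
  obtain ⟨D, hD⟩ : ∃ D, D = S.Kb a b ⊓ S.Kb b a := ⟨_, rfl⟩
  have hswap : ∀ k, k ∈ S.Kb a b ↔ g * k * g⁻¹ ∈ S.Kb b a := fun k => by
    have := S.Kb_conj g a b k; rwa [hga, hgb] at this
  have hswap' : ∀ k, k ∈ S.Kb b a ↔ g * k * g⁻¹ ∈ S.Kb a b := fun k => by
    have := S.Kb_conj g b a k; rwa [hga, hgb] at this
  have hgD : ∀ k, k ∈ D ↔ g * k * g⁻¹ ∈ D := fun k => by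
    rw [hD, Subgroup.mem_inf, Subgroup.mem_inf]
    exact and_comm.trans (and_congr (hswap' k) (hswap k))
  have hAD : ∀ u ∈ stabilizer G a ⊓ stabilizer G b, ∀ k, k ∈ D ↔ u * k * u⁻¹ ∈ D := fun u hu k => by
    rw [hD, Subgroup.mem_inf, Subgroup.mem_inf, ← S.pair_normal hu.1 hu.2, ← S.pair_normal hu.2 hu.1]
  have hDbound : ∀ x : Ω, (orbit (S.Kb a b) x).ncard ≤ m * (orbit D x).ncard := by
    intro x
    have h1 : Nat.card (S.Kb a b) ≤ m * Nat.card D := by
      have h2 := card_inf_bound (S.Kb_le a b) (inf_comm (stabilizer G b) (stabilizer G a) ▸ S.Kb_le b a)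
      rw [← card_eq_of_conj g hswap, hcardA, ← hD, mul_right_comm] at h2
      exact Nat.le_of_mul_le_mul_right h2 Nat.card_pos
    have h3 := orbit_mul (S.Kb a b) x
    have h4 := orbit_mul D x
    have h5 : Nat.card ↥(D ⊓ stabilizer G x) ≤ Nat.card ↥(S.Kb a b ⊓ stabilizer G x) :=
      Subgroup.card_le_of_le (inf_le_inf_right _ (hD ▸ inf_le_left))
    refine Nat.le_of_mul_le_mul_right (?_ : _ * Nat.card ↥(S.Kb a b ⊓ stabilizer G x) ≤ _) Nat.card_pos
    rw [h3]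
    refine h1.trans ?_
    rw [← h4, mul_assoc]
    exact Nat.mul_le_mul_left _ (Nat.mul_le_mul_left _ h5)
  have hDle : D ≤ S.Kb a b := hD ▸ inf_le_left
  have hu : ∀ y ∈ S.B a b, y ≠ b → (orbit D y).ncard = ℓ := by
    intro y hy hyb
    refine le_antisymm ?_ ?_
    · have hgy : g • y ∈ S.B b a \ {a} := by
        refine ⟨?_, fun e => hyb (smul_left_cancel g ((Set.mem_singleton_iff.1 e).trans hgb.symm))⟩
        have := S.smul_mem g h hy
        rwa [hga, hgb] at this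
      rw [← orbit_conj hgD y]
      rw [← hX', mem_orbit_sub] at hgy
      obtain ⟨w, hw, he⟩ := hgy
      rw [← he, orbit_conj (hAD w hw), hℓ]
      refine Set.ncard_le_ncard (fun x hx => ?_) (Set.toFinite _)
      obtain ⟨k, hk, rfl⟩ := mem_orbit_sub.1 hx
      exact mem_orbit_sub.2 ⟨k, hDle hk, rfl⟩
    · have h1 := hDbound y
      rw [S.orbit_Kb_block h2 h (S.mem h) hy (Ne.symm hyb), Set.ncard_sdiff_singleton_of_mem (S.mem h),
        S.card_B h, hm] at h1
      exact Nat.le_of_mul_le_mul_left h1 (by omega)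
  -- the incidence between the two blocks
  obtain ⟨μ, hμ, hμeq⟩ := S.exists_inter h2 h hz
  obtain ⟨ν₀, hν, hνeq⟩ := S.exists_inter h2 hz h
  rw [← hℓ] at hμeq
  rw [S.orbit_ncard_swap h hz, ← hℓ] at hνeq
  have hνμ : ν₀ = μ := Nat.eq_of_mul_eq_mul_left (show 0 < p - 1 by omega) (hνeq.symm.trans hμeq)
  have hμm : ℓ - 1 = μ * m := by
    rw [hm] at hμeq
    exact Nat.eq_of_mul_eq_mul_left (show 0 < ℓ by omega) (hμeq.trans (by ring))
  have hμ1 : 1 ≤ μ := by
    rcases Nat.eq_zero_or_pos μ with rfl | hμ0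
    · rw [zero_mul] at hμm; omega
    · exact hμ0
  have hμℓ : μ < ℓ := by
    have := Nat.le_mul_of_pos_right μ (show 0 < m by omega)
    omega
  obtain ⟨y, hy, hyb⟩ := S.exists_mem_ne h
  have hrow_y : {z | S.Rel a b z₀ y z}.ncard = ℓ := by rw [S.row_ncard h z₀ hy, hℓ]
  obtain ⟨w, hw, hwb⟩ : ∃ w, S.Rel a b z₀ y w ∧ ¬ S.Rel a b z₀ b w := by
    by_contra hcon
    push Not at hcon
    have h1 := hμ b (S.mem h) y hy (Ne.symm hyb)
    have e : {z | S.Rel a b z₀ b z} ∩ {z | S.Rel a b z₀ y z} = {z | S.Rel a b z₀ y z} :=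
      Set.inter_eq_right.2 fun z hz' => hcon z hz'
    rw [e, hrow_y] at h1
    omega
  have hwB : w ∈ S.B a z₀ := S.row_subset b hz y hw
  have hwO2 : w ∈ orbit (S.Kb a b) w₀ := by
    rw [hO2]
    exact ⟨hwB, fun hm' => hwb (by rw [← S.rel_row] at hm'; exact hm')⟩
  obtain ⟨s, hs⟩ : ∃ s, s = (orbit D w).ncard := ⟨_, rfl⟩
  have hsdvd : s ∣ p - ℓ := by
    have hpart2 := ncard_eq_mul_image (fun x => orbit D x) (orbit (S.Kb a b) w) (u := s) fun x hx => by
      obtain ⟨k, hk, rfl⟩ := mem_orbit_sub.1 hx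
      rw [hs, ← orbit_conj (hAD k (S.Kb_le a b hk)) w]
      congr 1
      ext v
      constructor
      · rintro ⟨-, e⟩
        rw [← show orbit D v = orbit D (k • w) from e]
        exact mem_orbit_self v
      · intro hv
        refine ⟨?_, orbit_eq_of_mem hv⟩
        obtain ⟨d, hd, rfl⟩ := mem_orbit_sub.1 hv
        exact mem_orbit_sub.2 ⟨d * k, mul_mem (hDle hd) hk, mul_smul _ _ _⟩
    rw [orbit_eq_of_mem hwO2, hO2card] at hpart2
    exact Dvd.intro_left _ hpart2.symm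
  have hsbound : p - ℓ ≤ m * s := by
    rw [hs, ← hO2card, ← orbit_eq_of_mem hwO2]
    exact hDbound w
  have hDK : ∀ d ∈ D, d ∈ S.K a := fun d hd => (hDle hd).1
  obtain ⟨x, hx⟩ : ∃ x, x = {v | v ∈ orbit D w ∧ S.Rel a b z₀ y v}.ncard := ⟨_, rfl⟩
  obtain ⟨ν, hν'⟩ : ∃ ν, ν = {v | v ∈ orbit D y ∧ S.Rel a b z₀ v w}.ncard := ⟨_, rfl⟩
  have himg : ∀ d ∈ D, ∀ v : Ω, (d • v ∈ orbit D w ↔ v ∈ orbit D w) ∧ (d • v ∈ orbit D y ↔ v ∈ orbit D y) :=
    fun d hd v => ⟨mem_orbit_smul_iff hd v w, mem_orbit_smul_iff hd v y⟩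
  have hdc : (orbit D y).ncard * x = (orbit D w).ncard * ν := by
    refine double_count (fun u v => S.Rel a b z₀ u v) _ _ (fun u hu' => ?_) fun v hv' => ?_
    · obtain ⟨d, hd, rfl⟩ := mem_orbit_sub.1 hu'
      rw [hx]
      refine Eq.trans ?_ (Set.ncard_image_of_injective _ (MulAction.injective d))
      congr 1
      ext v
      obtain ⟨v, rfl⟩ := MulAction.surjective d v
      rw [(MulAction.injective d).mem_set_image]
      exact and_congr (himg d hd v).1 (S.rel_smul (hDK d hd) b z₀ y v)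
    · obtain ⟨d, hd, rfl⟩ := mem_orbit_sub.1 hv'
      rw [hν']
      refine Eq.trans ?_ (Set.ncard_image_of_injective _ (MulAction.injective d))
      congr 1
      ext v
      obtain ⟨v, rfl⟩ := MulAction.surjective d v
      rw [(MulAction.injective d).mem_set_image]
      exact and_congr (himg d hd v).2 (S.rel_smul (hDK d hd) b z₀ v w)
  rw [hu y hy hyb, ← hs] at hdc
  have hx0 : 0 < x := by
    rw [hx]
    exact (Set.ncard_pos (Set.toFinite _)).2 ⟨w, mem_orbit_self w, hw⟩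
  have hxs : x ≤ s := by
    rw [hx, hs]
    exact Set.ncard_le_ncard (fun v hv => hv.1) (Set.toFinite _)
  have hxℓ : x + μ ≤ ℓ := by
    rw [hx, ← hμ b (S.mem h) y hy (Ne.symm hyb), ← hrow_y, ← Set.ncard_union_eq]
    · refine Set.ncard_le_ncard ?_ (Set.toFinite _)
      rintro v (⟨-, hv⟩ | ⟨-, hv⟩) <;> exact hv
    · rw [Set.disjoint_left]
      rintro v ⟨hv, -⟩ ⟨hvb, -⟩
      rw [S.rel_row] at hvb
      have hsub : v ∈ orbit (S.Kb a b) w₀ := by
        rw [← orbit_eq_of_mem hwO2]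
        obtain ⟨d, hd, rfl⟩ := mem_orbit_sub.1 hv
        exact mem_orbit_sub.2 ⟨d, hDle hd, rfl⟩
      rw [hO2] at hsub
      exact hsub.2 hvb
  have hcop : Nat.Coprime s ℓ := by
    have h1 : Nat.Coprime (p - ℓ) ℓ := by
      rw [Nat.coprime_sub_self_left (by omega)]
      exact (S.prime.coprime_iff_not_dvd).2 fun hd => by
        have := Nat.le_of_dvd (by omega) hd; omega
    exact Nat.Coprime.coprime_dvd_left hsdvd h1
  have hsx : s ∣ x := hcop.dvd_of_dvd_mul_left ⟨ν, hdc⟩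
  have hxs' : x = s := le_antisymm hxs (Nat.le_of_dvd hx0 hsx)
  have hνℓ : ν = ℓ := by
    subst hxs'
    exact (Nat.eq_of_mul_eq_mul_left hx0 (hdc.symm.trans (mul_comm _ _)))
  have hOw : orbit D y ⊆ {u | S.Rel a b z₀ u w} := by
    have : {v | v ∈ orbit D y ∧ S.Rel a b z₀ v w} = orbit D y :=
      Set.eq_of_subset_of_ncard_le (fun v hv => hv.1) (by rw [← hν', hνℓ, hu y hy hyb]) (Set.toFinite _)
    intro u hu'
    rw [← this] at hu'
    exact hu'.2
  have hs1 : s ≤ 1 := by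
    by_contra hcon
    obtain ⟨w', hw', hne'⟩ := Set.exists_ne_of_one_lt_ncard (s := orbit D w) (by omega) w
    obtain ⟨d, hd, rfl⟩ := mem_orbit_sub.1 hw'
    have hdwB : d • w ∈ S.B a z₀ := by
      rw [← S.eq_of_mem hz hwB]
      exact (hDK d hd).2 w (S.ne hz hwB).symm
    have h1 := hν w hwB (d • w) hdwB hne'.symm
    have h2' : orbit D y ⊆ {v | S.Rel a z₀ b w v} ∩ {v | S.Rel a z₀ b (d • w) v} := by
      intro u hu'
      refine ⟨(S.rel_swap a b z₀ u w).1 (hOw hu'), (S.rel_swap a b z₀ u _).1 ?_⟩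
      obtain ⟨u₀, rfl⟩ := MulAction.surjective d u
      exact (S.rel_smul (hDK d hd) b z₀ u₀ w).2 (hOw ((himg d hd u₀).2.1 hu'))
    have h3 := Set.ncard_le_ncard h2' (Set.toFinite _)
    rw [h1, hu y hy hyb, hνμ] at h3
    omega
  have hℓμ : ℓ = μ + 1 := by
    have hpℓ : p - ℓ ≤ m := hsbound.trans (by
      calc m * s ≤ m * 1 := Nat.mul_le_mul_left _ hs1
        _ = m := mul_one m)
    have e1 : (ℓ : ℤ) - 1 = μ * m := by
      have := congrArg (fun n : ℕ => (n : ℤ)) hμm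
      push_cast [Nat.cast_sub (show 1 ≤ ℓ by omega)] at this
      linarith
    have e2 : (p : ℤ) - 1 = m * ℓ := by
      have := congrArg (fun n : ℕ => (n : ℤ)) hm
      push_cast [Nat.cast_sub (show 1 ≤ p by omega)] at this
      linarith
    have e3 : (p : ℤ) - ℓ ≤ m := by
      have : ((p - ℓ : ℕ) : ℤ) ≤ m := by exact_mod_cast hpℓ
      rwa [Nat.cast_sub (show ℓ ≤ p by omega)] at this
    have : (m : ℤ) * ((ℓ : ℤ) - μ - 1) ≤ 0 := by nlinarith
    have hmpos : (0 : ℤ) < m := by exact_mod_cast (show 0 < m by omega)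
    have : (ℓ : ℤ) - μ - 1 ≤ 0 := nonpos_of_mul_nonpos_right this hmpos
    omega
  have : μ * 2 ≤ μ * m := Nat.mul_le_mul_left _ hm2
  omega
where
  mem_orbit_smul_iff {D : Subgroup G} {d : G} (hd : d ∈ D) (v w : Ω) : d • v ∈ orbit D w ↔ v ∈ orbit D w := by
    constructor
    · intro h
      obtain ⟨e, he, hv⟩ := mem_orbit_sub.1 h
      exact mem_orbit_sub.2 ⟨d⁻¹ * e, mul_mem (inv_mem hd) he, by rw [mul_smul, hv, inv_smul_smul]⟩
    · intro h
      obtain ⟨e, he, hv⟩ := mem_orbit_sub.1 h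
      exact mem_orbit_sub.2 ⟨d * e, mul_mem hd he, by rw [mul_smul, hv]⟩

theorem two_trans_false (h2 : S.TwoT) (hp3 : 3 ≤ p) : False := by
  by_cases hall : ∀ a b : Ω, a ≠ b → (S.F a b).ncard = p
  · exact S.all_false h2 hp3 hall
  push Not at hall
  obtain ⟨a, b, h, hne⟩ := hall
  refine S.none_false h2 hp3 fun x y hxy => ?_
  rw [S.F_ncard_const h hxy]
  exact (S.F_dichotomy h2 hp3 h).resolve_right hne

end Sys

end CfsgLib.PGroup.DoublyPrimitive
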